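import Groth.Agent.Lib.Cyc.Retr.Witness
import Mathlib.CategoryTheory.Abelian.GrothendieckAxioms.Basic

/-!
# A cycle rationally equivalent to zero is a difference of two cokernels
-/

set_option autoImplicit false
set_option linter.style.haveILetI false
universe u

open CategoryTheory CategoryTheory.Limits AlgebraicGeometry IsLocalRing

namespace Groth.Agent.Lib.Cyc.Retr.Family

open Groth.Agent.Lib Groth.Agent.Lib.Cyc Groth.Agent.Lib.Cyc.Retr
  Groth.Agent.Lib.Modules.StalkModule

variable {X : Scheme.{u}}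

theorem mono_sigma_map {ι : Type u} {F G : ι → X.Modules} (f : ∀ n, F n ⟶ G n) [∀ n, Mono (f n)] :
    Mono (Limits.Sigma.map f) := by
  let ν : Discrete.functor F ⟶ Discrete.functor G := Discrete.natTrans fun n => f n.as
  haveI : ∀ Y, Mono (ν.app Y) := fun Y => by
    dsimp [ν]
    infer_instance
  haveI := NatTrans.mono_of_mono_app ν
  exact colim.map_mono ν

theorem shortExact_sigma_cokernel {ι : Type u} {F G : ι → X.Modules} (f : ∀ n, F n ⟶ G n)
    [∀ n, Mono (f n)] :
    (ShortComplex.mk (Limits.Sigma.map f) (Limits.Sigma.map fun n => cokernel.π (f n))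
      (by refine Limits.Sigma.hom_ext _ _ fun n => ?_; simp)).ShortExact := by
  haveI := mono_sigma_map f
  haveI he : Epi (Limits.Sigma.map fun n => cokernel.π (f n)) := by
    constructor
    intro Z a b hab
    refine Limits.Sigma.hom_ext _ _ fun n => ?_
    rw [← cancel_epi (cokernel.π (f n))]
    simpa using congrArg (Sigma.ι G n ≫ ·) hab
  refine ShortComplex.ShortExact.mk' (ShortComplex.exact_of_g_is_cokernel _
    (CokernelCofork.IsColimit.ofπ _ _
      (fun {Z} s hs => Sigma.desc fun n => cokernel.desc (f n) (Sigma.ι G n ≫ s) (by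
        have := congrArg (Sigma.ι F n ≫ ·) hs
        simpa using this))
      (fun {Z} s hs => by
        refine Limits.Sigma.hom_ext _ _ fun n => ?_
        simp)
      (fun {Z} s hs m hm => by
        rw [← cancel_epi (Limits.Sigma.map fun n => cokernel.π (f n)), hm]
        refine Limits.Sigma.hom_ext _ _ fun n => ?_
        simp))) inferInstance he

variable [IsLocallyNoetherian X]

omit [IsLocallyNoetherian X] in
theorem toNat_sum {κ : Type} (s : Finset κ) (f : κ → ℕ∞) (h : ∀ j ∈ s, f j ≠ ⊤) :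
    (∑ j ∈ s, f j).toNat = ∑ j ∈ s, (f j).toNat := by
  suffices H : (∑ j ∈ s, f j) ≠ ⊤ ∧ (∑ j ∈ s, f j).toNat = ∑ j ∈ s, (f j).toNat from H.2
  induction s using Finset.cons_induction with
  | empty => exact ⟨by simp, rfl⟩
  | cons a s ha ih =>
    obtain ⟨h1, h2⟩ := ih fun j hj => h j (Finset.mem_cons.2 (Or.inr hj))
    have h0 := h a (Finset.mem_cons_self a s)
    rw [Finset.sum_cons, Finset.sum_cons, ENat.toNat_add h0 h1, h2]
    exact ⟨(ENat.add_lt_top.2 ⟨lt_top_iff_ne_top.2 h0, lt_top_iff_ne_top.2 h1⟩).ne, rfl⟩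

omit [IsLocallyNoetherian X] in
theorem sheafFun_sigma {δ : X → ℤ} {k : ℤ} {ι : Type u} (F : ι → X.Modules)
    (hF : ∀ n x, δ x = k → Module.length (X.presheaf.stalk x) ((F n).presheaf.stalk x) ≠ ⊤)
    (x : X) (hfin : {n | Nontrivial ((F n).presheaf.stalk x)}.Finite) :
    Cyc.sheafFun δ k (∐ F) x = ∑ᶠ n, Cyc.sheafFun δ k (F n) x := by
  classical
  by_cases hx : δ x = k
  swap
  · simp [Cyc.sheafFun, hx]
  let s := hfin.toFinset
  let e : Fin s.card → ι := fun j => (s.equivFin.symm j).1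
  have he : Function.Injective e := Subtype.val_injective.comp s.equivFin.symm.injective
  have hrange : ∀ n, n ∉ Set.range e → Subsingleton ((F n).presheaf.stalk x) := fun n hn => by
    by_contra hs
    exact hn ⟨s.equivFin ⟨n, (Set.Finite.mem_toFinset _).2 (not_subsingleton_iff_nontrivial.1 hs)⟩,
      by simp [e]⟩
  obtain ⟨φ⟩ := K0.Sum.exists_stalk_sigma_equiv F x e he hrange
  rw [Cyc.sheafFun, if_pos hx, ← φ.length_eq, Module.length_pi_of_fintype,
    toNat_sum _ _ (fun j _ => hF _ x hx), finsum_eq_sum_of_support_subset (s := Finset.univ.image e) _ ?_,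
    Finset.sum_image fun a _ b _ h => he h]
  · rw [Nat.cast_sum]
    exact Finset.sum_congr rfl fun j _ => by rw [Cyc.sheafFun, if_pos hx]
  · intro n hn
    rw [Finset.coe_image, Finset.coe_univ, Set.image_univ]
    by_contra hc
    haveI := hrange n hc
    refine hn ?_
    simp only [Cyc.sheafFun, if_pos hx, Module.length_eq_zero]
    rfl

/-- A cycle rationally equivalent to zero is a difference of cokernels of two injections. -/
theorem exists_witness {δ : X → ℤ} (hδ : Cyc.IsDimFun X δ) {k : ℤ} {α : AlgebraicCycle X ℤ}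
    (h : Cyc.RatEquivZero δ k α) :
    ∃ (J O : X.Modules) (u v : J ⟶ O), Mono u ∧ Mono v ∧ Coh.IsCoh J ∧ Cyc.CohLe δ (k + 1) O ∧
      Cyc.CohLe δ k (cokernel u) ∧ Cyc.CohLe δ k (cokernel v) ∧
      ∀ x, α x = Cyc.sheafFun δ k (cokernel u) x - Cyc.sheafFun δ k (cokernel v) x := by
  obtain ⟨ι, ξ, f, hξ, hf, hlf, hα⟩ := h
  have hex : ∀ i, ∃ c : X.presheaf.stalk (ξ i), X.residue (ξ i) c = f i ∧ IsUnit c := fun i => by
    obtain ⟨c, hc⟩ := X.residue_surjective (ξ i) (f i)
    refine ⟨c, hc, ?_⟩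
    by_contra hne
    exact hf i (hc ▸ (IsLocalRing.residue_eq_zero_iff _).2 ((mem_maximalIdeal c).2 hne))
  choose c hcf hc using hex
  let u := fun i => Witness.incl (ξ i) (c i)
  let v := fun i => Witness.quot (hc i)
  haveI : ∀ i, Mono (v i) := fun i => Witness.mono_quot (hc i)
  have hU := fun x => hlf x
  have hfin : ∀ (x : X) (G : ι → X.Modules),
      (∀ i y, ¬ ξ i ⤳ y → Subsingleton ((G i).presheaf.stalk y)) →
      {n | Nontrivial ((G n).presheaf.stalk x)}.Finite := fun x G hG => by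
    obtain ⟨U, -, hxU, hfin⟩ := hlf x
    refine hfin.subset fun n hn => ⟨x, specializes_iff_mem_closure.1 ?_, hxU⟩
    by_contra hs
    exact not_subsingleton_iff_nontrivial.2 hn (hG n x hs)
  have hloc : ∀ (G : ι → X.Modules), (∀ i y, ¬ ξ i ⤳ y → Subsingleton ((G i).presheaf.stalk y)) →
      ∀ x : X, ∃ U : X.Opens, x ∈ U ∧ ∃ s : Finset ι, ∀ n ∉ s, ∀ y ∈ U,
        Subsingleton ((G n).presheaf.stalk y) := fun G hG x => by
    obtain ⟨U, hU, hxU, hfin⟩ := hlf x
    refine ⟨⟨U, hU⟩, hxU, hfin.toFinset, fun n hn y hy => hG n y fun hs => hn ?_⟩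
    exact (Set.Finite.mem_toFinset _).2 ⟨y, specializes_iff_mem_closure.1 hs, hy⟩
  have hO : ∀ i y, ¬ ξ i ⤳ y → Subsingleton ((Cyc.closureStructureSheaf (ξ i)).presheaf.stalk y) :=
    fun i y hy => Witness.stalk_trivial_of_not_specializes hy
  have hJ : ∀ i y, ¬ ξ i ⤳ y → Subsingleton ((Witness.J (ξ i) (c i)).presheaf.stalk y) := fun i y hy =>
    have := hO i y hy
    ((mono_iff_stalkMapₗ_injective (u i)).1 inferInstance y).subsingleton
  have hC : ∀ (g : ∀ i, Witness.J (ξ i) (c i) ⟶ Cyc.closureStructureSheaf (ξ i)) i y, ¬ ξ i ⤳ y →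
      Subsingleton ((cokernel (g i)).presheaf.stalk y) := fun g i y hy =>
    have := hO i y hy
    ((epi_iff_stalkMapₗ_surjective (cokernel.π (g i))).1 inferInstance y).subsingleton
  have hOcoh : Coh.IsCoh (∐ fun i => Cyc.closureStructureSheaf (ξ i)) :=
    K0.Sum.sigma_isCoh _ (hloc _ hO) fun i => Devissage.Closure.isCoh_closureStructureSheaf _
  have hJcoh : Coh.IsCoh (∐ fun i => Witness.J (ξ i) (c i)) :=
    K0.Sum.sigma_isCoh _ (hloc _ hJ) fun i => Witness.isCoh_J _ _
  have hle : ∀ (G : ι → X.Modules) (a : ℤ), (∀ i, Cyc.CohLe δ a (G i)) →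
      ∀ y, Nontrivial ((∐ G).presheaf.stalk y) → δ y ≤ a := fun G a hG y hy => by
    by_contra hlt
    have hbot : (⊥ : Submodule (X.presheaf.stalk y) ((∐ G).presheaf.stalk y)) = ⊤ :=
      K0.Sum.span_stalk_sigma _ y _ fun n w => by
        haveI : Subsingleton ((G n).presheaf.stalk y) :=
          not_nontrivial_iff_subsingleton.1 fun h => hlt ((hG n).2 y h)
        rw [Subsingleton.elim w 0, map_zero]
        exact Submodule.zero_mem _
    haveI := hy
    obtain ⟨w, hw⟩ := exists_ne (0 : (∐ G).presheaf.stalk y)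
    exact hw ((Submodule.mem_bot _).1 (hbot ▸ trivial : w ∈ (⊥ : Submodule (X.presheaf.stalk y) _)))
  have hOle : ∀ i, Cyc.CohLe δ (k + 1) (Cyc.closureStructureSheaf (ξ i)) := fun i =>
    ⟨Devissage.Closure.isCoh_closureStructureSheaf _, fun y hy => by
      by_cases hs : ξ i ⤳ y
      · exact (DimFun.le_of_specializes hδ hs).trans (hξ i).le
      · exact absurd (hO i y hs) (not_subsingleton_iff_nontrivial.2 hy)⟩
  have huv : ∀ (g : ∀ i, Witness.J (ξ i) (c i) ⟶ Cyc.closureStructureSheaf (ξ i)),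
      (∀ i, Mono (g i)) → (∀ i, Cyc.CohLe δ k (cokernel (g i))) →
      Mono (Limits.Sigma.map g) ∧ Cyc.CohLe δ k (cokernel (Limits.Sigma.map g)) ∧
        ∀ x, Cyc.sheafFun δ k (cokernel (Limits.Sigma.map g)) x =
          ∑ᶠ i, Cyc.sheafFun δ k (cokernel (g i)) x := by
    intro g hg hcl
    haveI := hg
    have hm := mono_sigma_map g
    let e : cokernel (Limits.Sigma.map g) ≅ ∐ fun i => cokernel (g i) :=
      (cokernelIsCokernel _).coconePointUniqueUpToIso (shortExact_sigma_cokernel g).gIsCokernel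
    have hcoh : Cyc.CohLe δ k (∐ fun i => cokernel (g i)) :=
      ⟨K0.Sum.sigma_isCoh _ (hloc _ (hC g)) fun i => (hcl i).1, hle _ k hcl⟩
    refine ⟨hm, ⟨CohBasics.Closure.isCoh_of_iso e.symm hcoh.1, fun y hy => hcoh.2 y ?_⟩, fun x => ?_⟩
    · haveI := hy
      exact (stalkLinearEquiv e y).symm.toEquiv.nontrivial
    · have : Cyc.sheafFun δ k (cokernel (Limits.Sigma.map g)) x =
          Cyc.sheafFun δ k (∐ fun i => cokernel (g i)) x := by
        simp only [Cyc.sheafFun, (stalkLinearEquiv e x).length_eq]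
      rw [this]
      exact sheafFun_sigma _ (fun n y hy => K0.Cycles.length_ne_top k hδ (hcl n) hy) x
        (hfin x _ (hC g))
  have hcu : ∀ i, Cyc.CohLe δ k (cokernel (u i)) := fun i =>
    Witness.cohLe_cokernel hδ (hξ i) _ Witness.isCoh_cokernel_incl (Witness.surjective_incl_self (hc i))
  have hcv : ∀ i, Cyc.CohLe δ k (cokernel (v i)) := fun i =>
    Witness.cohLe_cokernel hδ (hξ i) _ (Witness.isCoh_cokernel_quot (hc i))
      (Witness.surjective_quot_self (hc i))
  obtain ⟨mu, cu, fu⟩ := huv u (fun i => inferInstance) hcu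
  obtain ⟨mv, cv, fv⟩ := huv v (fun i => inferInstance) hcv
  refine ⟨_, _, Limits.Sigma.map u, Limits.Sigma.map v, mu, mv, hJcoh,
    ⟨hOcoh, hle _ (k + 1) hOle⟩, cu, cv, fun x => ?_⟩
  have hsupp : ∀ (g : ∀ i, Witness.J (ξ i) (c i) ⟶ Cyc.closureStructureSheaf (ξ i)),
      (Function.support fun i => Cyc.sheafFun δ k (cokernel (g i)) x).Finite := fun g => by
    refine (hfin x _ (hC g)).subset fun i hi => ?_
    by_contra hs
    haveI := not_nontrivial_iff_subsingleton.1 hs
    refine hi ?_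
    simp only [Cyc.sheafFun, Module.length_eq_zero]
    split_ifs <;> rfl
  rw [hα x, fu, fv, ← finsum_sub_distrib (hsupp u) (hsupp v)]
  exact finsum_congr fun i => hcf i ▸ Witness.divFun_eq (hc i) hδ (hξ i) x

/-- Rationally equivalent length cycles: the classes agree. -/
theorem cl_eq {δ : X → ℤ} {k : ℤ} {J O : X.Modules} (u v : J ⟶ O) [Mono u] [Mono v]
    (hJ : Coh.IsCoh J) (hO : Cyc.CohLe δ (k + 1) O) :
    Cyc.toK0CohQuot δ (k + 1) (k - 1) (cokernel u) = Cyc.toK0CohQuot δ (k + 1) (k - 1) (cokernel v) :=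
  add_left_cancel ((K0Tools.cl_of_mono u hJ hO).symm.trans (K0Tools.cl_of_mono v hJ hO))

end Groth.Agent.Lib.Cyc.Retr.Family
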