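import Groth.Agent.Lib.Cyc.Retr.K0Tools
import Groth.Agent.Lib.Devissage.Sky

/-!
# A principal divisor is a difference of two cokernels
-/

set_option autoImplicit false
set_option linter.style.haveILetI false
universe u

open CategoryTheory CategoryTheory.Limits AlgebraicGeometry IsLocalRing

namespace Groth.Agent.Lib.Cyc.Retr.Witness

open Groth.Agent.Lib Groth.Agent.Lib.Cyc Groth.Agent.Lib.Cyc.Retr Groth.Agent.Lib.Cyc.Retr.Point
  Groth.Agent.Lib.Cyc.Retr.Idx Groth.Agent.Lib.Modules.StalkModule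

variable {X : Scheme.{u}}

noncomputable section

/-- `1` on the closure. -/
def one (ζ : X) : Γ(Cyc.closureStructureSheaf ζ, ⊤) :=
  show Γ((IntMult.ptIdeal ζ).subscheme, (IntMult.ptIdeal ζ).subschemeι ⁻¹ᵁ ⊤) from 1

/-- The germ of `1`. -/
def oneAt (ζ y : X) : (Cyc.closureStructureSheaf ζ).presheaf.stalk y :=
  (Cyc.closureStructureSheaf ζ).presheaf.germ ⊤ y trivial (one ζ)

theorem res_one (ζ : X) (U : X.Opens) :
    QCoh.Localizing.res (Cyc.closureStructureSheaf ζ) (le_top : U ≤ ⊤) (one ζ) =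
      (show Γ((IntMult.ptIdeal ζ).subscheme, (IntMult.ptIdeal ζ).subschemeι ⁻¹ᵁ U) from 1) := by
  exact map_one (((IntMult.ptIdeal ζ).subscheme.presheaf.map
    ((TopologicalSpace.Opens.map _).map (homOfLE (le_top : U ≤ ⊤))).op).hom)

theorem germ_one (ζ : X) {U : X.Opens} {y : X} (hy : y ∈ U) :
    (Cyc.closureStructureSheaf ζ).presheaf.germ U y hy
      (show Γ((IntMult.ptIdeal ζ).subscheme, (IntMult.ptIdeal ζ).subschemeι ⁻¹ᵁ U) from 1) =
      oneAt ζ y := by
  rw [← res_one ζ U]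
  exact TopCat.Presheaf.germ_res_apply _ _ y hy (one ζ)

theorem exists_smul_oneAt (ζ y : X) (v : (Cyc.closureStructureSheaf ζ).presheaf.stalk y) :
    ∃ r : X.presheaf.stalk y, r • oneAt ζ y = v := by
  haveI := (Devissage.Closure.isCoh_closureStructureSheaf ζ).1
  let i := (IntMult.ptIdeal ζ).subschemeι
  obtain ⟨_, ⟨U, hU, rfl⟩, hyU, -⟩ :=
    X.isBasis_affineOpens.exists_subset_of_mem_open (Set.mem_univ y) isOpen_univ
  obtain ⟨f, t, hf, hft⟩ := StalkLoc.Basic.exists_smul_eq_germ hU hyU v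
  obtain ⟨r, hr⟩ := ((isClosedImmersion_iff_isAffineHom (f := i)).mp inferInstance).2 U hU
    (show Γ((IntMult.ptIdeal ζ).subscheme, i ⁻¹ᵁ U) from t)
  have hu := (X.mem_basicOpen f y hyU).1 hf
  refine ⟨hu.unit⁻¹ * X.presheaf.germ U y hyU r, ?_⟩
  rw [mul_smul, ← germ_one ζ hyU, ← germ_smul hyU r]
  have e : (r • (show Γ(Cyc.closureStructureSheaf ζ, U) from
      (show Γ((IntMult.ptIdeal ζ).subscheme, i ⁻¹ᵁ U) from 1))) = t :=
    show i.app U r * 1 = _ by rw [mul_one]; exact hr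
  rw [e, ← hft, smul_smul, IsUnit.val_inv_mul, one_smul]

theorem germ_smul_oneAt_eq_zero (ζ : X) {U : X.Opens} {y : X} (hy : y ∈ U) (a : Γ(X, U))
    (ha : ζ ∉ X.basicOpen a) : X.presheaf.germ U y hy a • oneAt ζ y = 0 := by
  let i := (IntMult.ptIdeal ζ).subschemeι
  haveI : AlgebraicGeometry.IsReduced (IntMult.ptIdeal ζ).subscheme :=
    H75.RedSub.isReduced_vanishingIdeal _
  have h0 : i.app U a = 0 := by
    rw [← basicOpen_eq_bot_iff, ← Scheme.preimage_basicOpen, eq_bot_iff]
    intro z hz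
    refine ha (Specializes.mem_open (specializes_iff_mem_closure.2 ?_) (X.basicOpen a).2 hz)
    rw [← Devissage.Closure.range_ptIdeal ζ]
    exact Set.mem_range_self z
  rw [← germ_one ζ hy, ← germ_smul hy a]
  refine Eq.trans ?_ (map_zero ((Cyc.closureStructureSheaf ζ).presheaf.germ U y hy).hom)
  congr 1
  show i.app U a * 1 = 0
  rw [h0, zero_mul]

theorem specializes_oneAt (ζ : X) {x ξ : X} (h : ξ ⤳ x) :
    (Cyc.closureStructureSheaf ζ).presheaf.stalkSpecializes h (oneAt ζ x) = oneAt ζ ξ :=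
  ConcreteCategory.congr_hom (TopCat.Presheaf.germ_stalkSpecializes
    (Cyc.closureStructureSheaf ζ).presheaf (U := ⊤) (y := x) trivial h) (one ζ)

theorem nontrivial_stalk (ξ : X) : Nontrivial ((Cyc.closureStructureSheaf ξ).presheaf.stalk ξ) := by
  by_contra h
  haveI := not_nontrivial_iff_subsingleton.1 h
  have := Devissage.Closure.length_closureStructureSheaf ξ
  rw [Module.length_eq_zero] at this
  exact zero_ne_one this

theorem oneAt_ne_zero (ξ : X) : oneAt ξ ξ ≠ 0 := fun h => by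
  haveI := nontrivial_stalk ξ
  obtain ⟨v, hv⟩ := exists_ne (0 : (Cyc.closureStructureSheaf ξ).presheaf.stalk ξ)
  obtain ⟨r, hr⟩ := exists_smul_oneAt ξ ξ v
  exact hv (by rw [← hr, h, smul_zero])

theorem smul_eq_zero_of_mem (ξ : X) {c : X.presheaf.stalk ξ} (hc : c ∈ maximalIdeal _)
    (v : (Cyc.closureStructureSheaf ξ).presheaf.stalk ξ) : c • v = 0 := by
  haveI : IsSimpleModule (X.presheaf.stalk ξ) ((Cyc.closureStructureSheaf ξ).presheaf.stalk ξ) :=
    Module.length_eq_one_iff.mp (Devissage.Closure.length_closureStructureSheaf ξ)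
  obtain ⟨I, hI, ⟨ψ⟩⟩ := isSimpleModule_iff_quot_maximal.mp this
  refine ψ.injective ?_
  rw [map_smul, map_zero]
  obtain ⟨r, hr⟩ := Ideal.Quotient.mk_surjective (ψ v)
  rw [← hr, Algebra.smul_def, Ideal.Quotient.algebraMap_eq, ← map_mul,
    Ideal.Quotient.eq_zero_iff_mem]
  exact Ideal.mul_mem_right _ _ (IsLocalRing.eq_maximalIdeal hI ▸ hc)

theorem injective_specializes {ξ x : X} (h : ξ ⤳ x) :
    Function.Injective ((Cyc.closureStructureSheaf ξ).presheaf.stalkSpecializes h) := by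
  rw [injective_iff_map_eq_zero]
  intro v hv
  obtain ⟨r, rfl⟩ := exists_smul_oneAt ξ x v
  rw [C1.stalkSpecializes_smul, specializes_oneAt] at hv
  have hm : X.presheaf.stalkSpecializes h r ∈ maximalIdeal _ := by
    by_contra hne
    rw [mem_maximalIdeal, mem_nonunits_iff, not_not] at hne
    exact oneAt_ne_zero ξ (hne.smul_eq_zero.1 hv)
  obtain ⟨_, ⟨U, hU, rfl⟩, hxU, -⟩ :=
    X.isBasis_affineOpens.exists_subset_of_mem_open (Set.mem_univ x) isOpen_univ
  have hξU : ξ ∈ U := h.mem_open U.2 hxU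
  obtain ⟨a, s, hs, he⟩ := LocFin.exists_frac hU hxU r
  have ha : ξ ∉ X.basicOpen a := by
    rw [← LocFin.not_mem_pr hξU, not_not, LocFin.pr, Ideal.mem_comap]
    show X.presheaf.germ U ξ hξU a ∈ maximalIdeal _
    have e : X.presheaf.stalkSpecializes h (X.presheaf.germ U x hxU a) = X.presheaf.germ U ξ hξU a :=
      ConcreteCategory.congr_hom (TopCat.Presheaf.germ_stalkSpecializes X.presheaf hxU h) a
    rw [← e, ← he, map_mul]
    exact Ideal.mul_mem_left _ _ hm
  have hu := (X.mem_basicOpen s x hxU).1 ((LocFin.not_mem_pr hxU s).1 hs)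
  rw [← hu.smul_eq_zero, smul_smul, he]
  exact germ_smul_oneAt_eq_zero ξ hxU a ha

theorem sky_specializes_injective {y : X} (L : Type u) [AddCommGroup L]
    [Module (X.presheaf.stalk y) L] {x : X} (h : y ⤳ x) :
    Function.Injective ((Devissage.Sky.sky y L).presheaf.stalkSpecializes h) := by
  intro a b hab
  obtain ⟨U, hxU, f, rfl⟩ := TopCat.Presheaf.exists_germ_eq (Devissage.Sky.sky y L).presheaf a
  obtain ⟨V, hxV, g, rfl⟩ := TopCat.Presheaf.exists_germ_eq (Devissage.Sky.sky y L).presheaf b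
  have e : ∀ (U : X.Opens) (hxU : x ∈ U) (f : Γ(Devissage.Sky.sky y L, U)),
      (Devissage.Sky.sky y L).presheaf.stalkSpecializes h ((Devissage.Sky.sky y L).presheaf.germ U x hxU f) =
        (Devissage.Sky.sky y L).presheaf.germ U y (h.mem_open U.2 hxU) f := fun U hxU f =>
    ConcreteCategory.congr_hom
      (TopCat.Presheaf.germ_stalkSpecializes (Devissage.Sky.sky y L).presheaf hxU h) f
  have hab' := ((e U hxU f).symm.trans hab).trans (e V hxV g)
  refine TopCat.Presheaf.germ_ext (Devissage.Sky.sky y L).presheaf (U ⊓ V) ⟨hxU, hxV⟩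
    (homOfLE inf_le_left) (homOfLE inf_le_right) ?_
  funext h'
  exact (Devissage.Sky.germ_eq_iff (h.mem_open U.2 hxU) (h.mem_open V.2 hxV) f g).1 hab'

/-- The map to the skyscraper scaled by `c`. -/
def toK (ξ : X) (c : X.presheaf.stalk ξ) :
    Cyc.closureStructureSheaf ξ ⟶
      Devissage.Sky.sky ξ ((Cyc.closureStructureSheaf ξ).presheaf.stalk ξ) :=
  Devissage.Sky.toSky (c • LinearMap.id)

theorem toK_stalk (ξ : X) (c : X.presheaf.stalk ξ) {x : X} (h : ξ ⤳ x)
    (v : (Cyc.closureStructureSheaf ξ).presheaf.stalk x) :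
    (Devissage.Sky.sky ξ ((Cyc.closureStructureSheaf ξ).presheaf.stalk ξ)).presheaf.stalkSpecializes h
        (stalkMapₗ (toK ξ c) x v) =
      Devissage.Sky.stalkEquiv ξ _ (c • (Cyc.closureStructureSheaf ξ).presheaf.stalkSpecializes h v) := by
  rw [← Additive.stalkMap_specializes (toK ξ c) h v, toK, Devissage.Sky.stalkMapₗ_toSky]
  rfl

theorem isQCoh_target (ξ : X) :
    (Devissage.Sky.sky ξ ((Cyc.closureStructureSheaf ξ).presheaf.stalk ξ)).IsQuasicoherent :=
  Devissage.Sky.isQCoh_sky ξ _ fun a ha l =>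
    ⟨1, by rw [pow_one]; exact smul_eq_zero_of_mem ξ ((mem_maximalIdeal a).2 ha) l⟩

theorem stalk_trivial_of_not_specializes {ξ y : X} (h : ¬ ξ ⤳ y) :
    Subsingleton ((Cyc.closureStructureSheaf ξ).presheaf.stalk y) :=
  by_contra fun hs =>
    h (specializes_iff_mem_closure.2 (Devissage.Closure.support_closureStructureSheaf ξ hs))

theorem mono_toK (ξ : X) {c : X.presheaf.stalk ξ} (hc : IsUnit c) : Mono (toK ξ c) := by
  rw [mono_iff_stalkMapₗ_injective]
  intro y
  by_cases h : ξ ⤳ y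
  · intro a b hab
    have := congrArg ((Devissage.Sky.sky ξ
      ((Cyc.closureStructureSheaf ξ).presheaf.stalk ξ)).presheaf.stalkSpecializes h) hab
    rw [toK_stalk, toK_stalk, EmbeddingLike.apply_eq_iff_eq] at this
    exact injective_specializes h (hc.smul_left_cancel.1 this)
  · haveI := stalk_trivial_of_not_specializes h
    exact Function.injective_of_subsingleton _

variable (ξ : X) (c : X.presheaf.stalk ξ)

/-- The common ideal `{a | a ∈ c·A}`. -/
def J : X.Modules := kernel (toK ξ 1 ≫ cokernel.π (toK ξ c))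

/-- The inclusion. -/
def incl : J ξ c ⟶ Cyc.closureStructureSheaf ξ := kernel.ι _

instance : Mono (incl ξ c) := inferInstanceAs (Mono (kernel.ι _))

variable {ξ c} (hc : IsUnit c)

/-- The inclusion divided by `c`. -/
def quot : J ξ c ⟶ Cyc.closureStructureSheaf ξ :=
  haveI := mono_toK ξ hc
  Abelian.monoLift (toK ξ c) (incl ξ c ≫ toK ξ 1) (by
    rw [Category.assoc]; exact kernel.condition _)

theorem quot_comp : quot hc ≫ toK ξ c = incl ξ c ≫ toK ξ 1 :=
  haveI := mono_toK ξ hc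
  Abelian.monoLift_comp _ _ _

theorem mono_quot : Mono (quot hc) := by
  haveI := mono_toK ξ (isUnit_one (M := X.presheaf.stalk ξ))
  haveI : Mono (quot hc ≫ toK ξ c) := by rw [quot_comp]; infer_instance
  exact mono_of_mono _ (toK ξ c)

variable [IsLocallyNoetherian X]

variable (ξ c) in
theorem isCoh_J : Coh.IsCoh (J ξ c) := by
  haveI := isQCoh_target ξ
  haveI := (Devissage.Closure.isCoh_closureStructureSheaf ξ).1
  exact CohBasics.Closure.isCoh_kernel _ (Devissage.Closure.isCoh_closureStructureSheaf ξ)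
    (QCoh.Closure.isQCoh_cokernel (toK ξ c))

theorem isCoh_cokernel_incl : Coh.IsCoh (cokernel (incl ξ c)) :=
  CohBasics.Closure.isCoh_cokernel _ (isCoh_J ξ c).1 (Devissage.Closure.isCoh_closureStructureSheaf ξ)

theorem isCoh_cokernel_quot : Coh.IsCoh (cokernel (quot hc)) :=
  CohBasics.Closure.isCoh_cokernel _ (isCoh_J ξ c).1 (Devissage.Closure.isCoh_closureStructureSheaf ξ)

omit [IsLocallyNoetherian X] in
variable (ξ c) in
theorem range_incl {x : X} (h : ξ ⤳ x) (a : (Cyc.closureStructureSheaf ξ).presheaf.stalk x) :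
    a ∈ LinearMap.range (stalkMapₗ (incl ξ c) x) ↔
      ∃ b, c • (Cyc.closureStructureSheaf ξ).presheaf.stalkSpecializes h b =
        (Cyc.closureStructureSheaf ξ).presheaf.stalkSpecializes h a := by
  let O := Cyc.closureStructureSheaf ξ
  let K := Devissage.Sky.sky ξ (O.presheaf.stalk ξ)
  have hk : ((ShortComplex.mk (incl ξ c) (toK ξ 1 ≫ cokernel.π (toK ξ c)) (kernel.condition _)).Exact) :=
    ShortComplex.exact_kernel _
  have hc' : (ShortComplex.mk (toK ξ c) (cokernel.π (toK ξ c)) (cokernel.condition _)).Exact :=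
    ShortComplex.exact_cokernel _
  have e1 := (ShortComplex.ab_exact_iff_function_exact _).mp ((Modules.Stalk.exact_iff_stalk _).mp hk x)
  have e2 := (ShortComplex.ab_exact_iff_function_exact _).mp ((Modules.Stalk.exact_iff_stalk _).mp hc' x)
  have h1 : ∀ a, a ∈ LinearMap.range (stalkMapₗ (incl ξ c) x) ↔
      stalkMapₗ (cokernel.π (toK ξ c)) x (stalkMapₗ (toK ξ 1) x a) = 0 := fun a => by
    rw [← LinearMap.comp_apply, ← stalkMapₗ_comp]
    exact (e1 a).symm
  rw [h1]
  constructor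
  · intro h0
    obtain ⟨b, hb⟩ := (e2 _).1 h0
    refine ⟨b, (Devissage.Sky.stalkEquiv ξ (O.presheaf.stalk ξ)).injective ?_⟩
    rw [← toK_stalk ξ c h b, show stalkMapₗ (toK ξ c) x b = stalkMapₗ (toK ξ 1) x a from hb,
      toK_stalk ξ 1 h a, one_smul]
  · rintro ⟨b, hb⟩
    refine (e2 _).2 ⟨b, ?_⟩
    refine sky_specializes_injective (O.presheaf.stalk ξ) h ?_
    show K.presheaf.stalkSpecializes h (stalkMapₗ (toK ξ c) x b) =
      K.presheaf.stalkSpecializes h (stalkMapₗ (toK ξ 1) x a)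
    rw [toK_stalk ξ c h b, toK_stalk ξ 1 h a, one_smul, hb]

omit [IsLocallyNoetherian X] in
theorem quot_stalk {x : X} (h : ξ ⤳ x) (j : (J ξ c).presheaf.stalk x) :
    c • (Cyc.closureStructureSheaf ξ).presheaf.stalkSpecializes h (stalkMapₗ (quot hc) x j) =
      (Cyc.closureStructureSheaf ξ).presheaf.stalkSpecializes h (stalkMapₗ (incl ξ c) x j) := by
  refine (Devissage.Sky.stalkEquiv ξ ((Cyc.closureStructureSheaf ξ).presheaf.stalk ξ)).injective ?_
  rw [← toK_stalk ξ c h, ← LinearMap.comp_apply (stalkMapₗ (toK ξ c) x), ← stalkMapₗ_comp, quot_comp,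
    stalkMapₗ_comp, LinearMap.comp_apply, toK_stalk ξ 1 h, one_smul]

omit [IsLocallyNoetherian X] in
include hc in
theorem surjective_incl_self : Function.Surjective (stalkMapₗ (incl ξ c) ξ) := fun a => by
  have : a ∈ LinearMap.range (stalkMapₗ (incl ξ c) ξ) := by
    refine (range_incl ξ c specializes_rfl a).2 ⟨hc.unit⁻¹.1 • a, ?_⟩
    rw [TopCat.Presheaf.stalkSpecializes_refl]
    show c • hc.unit⁻¹.1 • a = a
    rw [smul_smul, IsUnit.mul_val_inv, one_smul]
  exact this

omit [IsLocallyNoetherian X] in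
include hc in
theorem surjective_quot_self : Function.Surjective (stalkMapₗ (quot hc) ξ) := fun a => by
  obtain ⟨j, hj⟩ := surjective_incl_self hc (c • a)
  refine ⟨j, ?_⟩
  have := quot_stalk hc specializes_rfl j
  rw [TopCat.Presheaf.stalkSpecializes_refl] at this
  exact hc.smul_left_cancel.1 (this.trans hj)

omit [IsLocallyNoetherian X] in
theorem length_cokernel_stalk {A B : X.Modules} (f : A ⟶ B) [Mono f] (x : X) :
    Module.length (X.presheaf.stalk x) ((cokernel f).presheaf.stalk x) =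
      qlen (⊤ : Submodule (X.presheaf.stalk x) (B.presheaf.stalk x))
        (LinearMap.range (stalkMapₗ f x)) := by
  obtain ⟨-, hs, he⟩ := Additive.stalk_exact (Cyc.Dev.Basic.shortExact_of_mono f) x
  let π : B.presheaf.stalk x →ₗ[X.presheaf.stalk x] (cokernel f).presheaf.stalk x :=
    stalkMapₗ (cokernel.π f) x
  let N := LinearMap.range (stalkMapₗ f x)
  have hN : LinearMap.ker π = N := he.linearMap_ker_eq
  refine (π.quotKerEquivOfSurjective hs).symm.length_eq.trans ?_
  refine (Submodule.Quotient.equiv _ _ Submodule.topEquiv.symm ?_).length_eq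
  rw [hN]
  ext v
  simp [N]

theorem cohLe_cokernel {δ : X → ℤ} {k : ℤ} (hδ : Cyc.IsDimFun X δ) (hξ : δ ξ = k + 1) {A : X.Modules}
    (f : A ⟶ Cyc.closureStructureSheaf ξ) (hcoh : Coh.IsCoh (cokernel f))
    (hs : Function.Surjective (stalkMapₗ f ξ)) : Cyc.CohLe δ k (cokernel f) := by
  refine ⟨hcoh, fun y hy => ?_⟩
  haveI := hy
  have hπ : Function.Surjective (stalkMapₗ (cokernel.π f) y) :=
    (epi_iff_stalkMapₗ_surjective (cokernel.π f)).1 inferInstance y
  by_cases h : ξ ⤳ y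
  · by_cases hne : ξ = y
    · subst hne
      exfalso
      obtain ⟨v, hv⟩ := exists_ne (0 : (cokernel f).presheaf.stalk ξ)
      obtain ⟨w, rfl⟩ := hπ v
      obtain ⟨j, rfl⟩ := hs w
      refine hv ?_
      rw [← LinearMap.comp_apply, ← stalkMapₗ_comp, cokernel.condition, stalkMapₗ_zero,
        LinearMap.zero_apply]
    · have := DimFun.lt_of_specializes hδ h hne
      omega
  · haveI := stalk_trivial_of_not_specializes h
    exact absurd hπ.subsingleton (not_subsingleton_iff_nontrivial.2 hy)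

/-- Multiplication by `c` on the stalk, linear over the smaller stalk. -/
def mulC {δ : X → ℤ} {k : ℤ} {x : X} (i : Big δ k x) (O : X.Modules) (c : X.presheaf.stalk i.1) :
    O.presheaf.stalk i.1 →ₗ[X.presheaf.stalk x] O.presheaf.stalk i.1 where
  toFun v := c • v
  map_add' := smul_add c
  map_smul' r v := by
    rw [RingHom.id_apply, Point.smul_def, Point.smul_def, smul_comm]

omit [IsLocallyNoetherian X] in
theorem qlen_cyclic {R : Type u} [CommRing R] {N : Type u} [AddCommGroup N] [Module R N] {z : N}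
    {q : Ideal R} (hq : ∀ t, t • z = 0 ↔ t ∈ q) (r : R) :
    qlen (Submodule.span R {z}) (Submodule.span R {r • z}) =
      Ring.ord (R ⧸ q) (Ideal.Quotient.mk q r) := by
  let B := Submodule.span R {r • z}
  let A := Submodule.span R {z}
  let f : R →ₗ[R] ↥A ⧸ B.comap A.subtype :=
    (B.comap A.subtype).mkQ ∘ₗ LinearMap.toSpanSingleton R A ⟨z, Submodule.mem_span_singleton_self z⟩
  have hf : Function.Surjective f := fun x => by
    obtain ⟨⟨w, hw⟩, rfl⟩ := Submodule.Quotient.mk_surjective _ x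
    obtain ⟨t, rfl⟩ := Submodule.mem_span_singleton.1 hw
    exact ⟨t, rfl⟩
  have hker : LinearMap.ker f = q ⊔ Ideal.span {r} := by
    ext t
    rw [LinearMap.mem_ker]
    show Submodule.Quotient.mk (t • (⟨z, Submodule.mem_span_singleton_self z⟩ : A)) = 0 ↔ _
    rw [Submodule.Quotient.mk_eq_zero]
    show t • z ∈ Submodule.span R {r • z} ↔ _
    rw [Submodule.mem_span_singleton]
    constructor
    · rintro ⟨d, hd⟩
      have : t - d * r ∈ q := (hq _).1 (by rw [sub_smul, mul_smul, hd, sub_self])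
      rw [← sub_add_cancel t (d * r)]
      exact add_mem (Submodule.mem_sup_left this)
        (Submodule.mem_sup_right (Ideal.mem_span_singleton'.2 ⟨d, rfl⟩))
    · intro ht
      obtain ⟨y, hy, w, hw, rfl⟩ := Submodule.mem_sup.1 ht
      obtain ⟨d, rfl⟩ := Ideal.mem_span_singleton'.1 hw
      exact ⟨d, by rw [add_smul, (hq y).2 hy, zero_add, mul_smul]⟩
  rw [qlen, ← (f.quotKerEquivOfSurjective hf).length_eq, (Submodule.quotEquivOfEq _ _ hker).length_eq,
    Ring.ord, show Ideal.span {Ideal.Quotient.mk q r} = (Ideal.span {r}).map (Ideal.Quotient.mk q) by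
      rw [Ideal.map_span, Set.image_singleton],
    ← Module.length_eq_of_surjective (R := R ⧸ q) (S := R) Ideal.Quotient.mk_surjective]
  exact (DoubleQuot.quotQuotEquivQuotSupₐ R q (Ideal.span {r})).toLinearEquiv.length_eq.symm

theorem qlen_span_lt_top {δ : X → ℤ} {k : ℤ} (hδ : Cyc.IsDimFun X δ) {x : X} (hx : δ x = k)
    (i : Big δ k x) {N : Type u} [AddCommGroup N] [Module (X.presheaf.stalk x) N] {z : N}
    (hq : ∀ t : X.presheaf.stalk x, t • z = 0 ↔ t ∈ RingHom.ker (Cyc.specMap x i.1 i.2.2))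
    {r : X.presheaf.stalk x} (hr : Cyc.specMap x i.1 i.2.2 r ≠ 0) :
    qlen (Submodule.span (X.presheaf.stalk x) {z}) (Submodule.span (X.presheaf.stalk x) {r • z}) < ⊤ := by
  rw [qlen_cyclic hq, Ring.ord]
  have := Ord.locQuot_krullDimLE_one hδ x i.1 i.2.2 (by have := i.2.1; omega)
  exact lt_top_iff_ne_top.2 (Module.length_ne_top_iff.2
    (isFiniteLength_quotient_span_singleton _ (Ord.mk_mem_nonZeroDivisors x i.1 i.2.2 r hr)))

theorem idx_span {δ : X → ℤ} {k : ℤ} (hδ : Cyc.IsDimFun X δ) {x : X} (hx : δ x = k)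
    (i : Big δ k x) {c : X.presheaf.stalk i.1} (hc : IsUnit c) :
    let A : Submodule (X.presheaf.stalk x) ((Cyc.closureStructureSheaf i.1).presheaf.stalk i.1) :=
      Submodule.span _ {oneAt i.1 i.1}
    idx A (A.map (mulC i _ c)) = Cyc.ordAt x i.1 i.2.2 (X.residue i.1 c) := by
  intro A
  let e := oneAt i.1 i.1
  have hd : δ i.1 ≤ δ x + 1 := by have := i.2.1; omega
  obtain ⟨r, s, hs, hrs⟩ := (geom hδ hx).frac i c
  have hr : r ∉ Flag.q (X.presheaf.stalk x) (S δ k x) i := fun hr => by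
    have h2 := Ideal.add_mem _ hrs hr
    rw [sub_add_cancel] at h2
    rcases (IsLocalRing.maximalIdeal.isMaximal _).isPrime.mem_or_mem h2 with h | h
    · exact hs h
    · exact (IsLocalRing.mem_maximalIdeal _).1 h hc
  have hr0 : Cyc.specMap x i.1 i.2.2 r ≠ 0 := fun h => hr ((mem_q i r).2 h)
  have hs0 : Cyc.specMap x i.1 i.2.2 s ≠ 0 := fun h => hs ((IsLocalRing.residue_eq_zero_iff _).1 h)
  have hann : ∀ v : (Cyc.closureStructureSheaf i.1).presheaf.stalk i.1, v ≠ 0 →
      ∀ t : X.presheaf.stalk x, t • v = 0 ↔ t ∈ RingHom.ker (Cyc.specMap x i.1 i.2.2) := fun v hv t => by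
    rw [Point.smul_def, RingHom.mem_ker, ← mem_q i t]
    refine ⟨fun h0 => ?_, fun h0 => smul_eq_zero_of_mem i.1 h0 v⟩
    rw [Flag.q, Ideal.mem_comap]
    by_contra hne
    rw [mem_maximalIdeal, mem_nonunits_iff, not_not] at hne
    exact hv (hne.smul_eq_zero.1 h0)
  have he : e ≠ 0 := oneAt_ne_zero i.1
  have hce : c • e ≠ 0 := fun h => he (hc.smul_eq_zero.1 h)
  have hmap : A.map (mulC i _ c) = Submodule.span _ {c • e} := by
    rw [Submodule.map_span, Set.image_singleton]; rfl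
  have hse : s • (c • e) = r • e := by
    have := smul_eq_zero_of_mem i.1 hrs e
    rw [sub_smul, sub_eq_zero, mul_smul] at this
    exact this
  have f1 := qlen_span_lt_top hδ hx i (hann e he) hr0
  have f2 := qlen_span_lt_top hδ hx i (hann _ hce) hs0
  have l1 : Submodule.span (X.presheaf.stalk x) {r • e} ≤ A := Submodule.span_singleton_smul_le _ _ _
  have l2 : Submodule.span (X.presheaf.stalk x) {r • e} ≤ Submodule.span _ {c • e} :=
    hse ▸ Submodule.span_singleton_smul_le _ _ _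
  rw [hse] at f2
  rw [hmap, ← idx_trans (comm_of_le l1 f1) (comm_of_le l2 f2).symm,
    idx_symm (Submodule.span (X.presheaf.stalk x) {c • e}), idx_of_le l1, idx_of_le l2,
    qlen_cyclic (hann e he) r]
  rw [← hse]
  rw [qlen_cyclic (hann _ hce) s, ← Ord.ordAt_specMap hδ x i.1 i.2.2 hd r hr0,
    ← Ord.ordAt_specMap hδ x i.1 i.2.2 hd s hs0]
  have hne : X.residue i.1 c ≠ 0 := (hc.map (X.residue i.1).hom).ne_zero
  have hmul : X.residue i.1 c * Cyc.specMap x i.1 i.2.2 s = Cyc.specMap x i.1 i.2.2 r := by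
    have h2 := (IsLocalRing.residue_eq_zero_iff _).2 hrs
    rw [map_sub, map_mul, sub_eq_zero] at h2
    exact (mul_comm _ _).trans h2
  rw [← hmul, Ord.ordAt_mul hδ x i.1 i.2.2 hd _ _ hne hs0]
  ring

/-- The divisor of the residue of `c` is the difference of the two length cycles. -/
theorem divFun_eq {δ : X → ℤ} {k : ℤ} (hδ : Cyc.IsDimFun X δ) (hξ : δ ξ = k + 1) (x : X) :
    Cyc.divFun δ ξ (X.residue ξ c) x =
      Cyc.sheafFun δ k (cokernel (incl ξ c)) x - Cyc.sheafFun δ k (cokernel (quot hc)) x := by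
  by_cases hx : δ x = k
  swap
  · rw [Cyc.sheafFun, Cyc.sheafFun, if_neg hx, if_neg hx, sub_zero,
      Cyc.divFun, dif_neg fun h => hx (by omega)]
  haveI := mono_quot hc
  by_cases hsp : ξ ⤳ x
  swap
  · haveI := stalk_trivial_of_not_specializes hsp
    haveI : Subsingleton ((cokernel (incl ξ c)).presheaf.stalk x) :=
      ((epi_iff_stalkMapₗ_surjective (cokernel.π (incl ξ c))).1 inferInstance x).subsingleton
    haveI : Subsingleton ((cokernel (quot hc)).presheaf.stalk x) :=
      ((epi_iff_stalkMapₗ_surjective (cokernel.π (quot hc))).1 inferInstance x).subsingleton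
    rw [Cyc.sheafFun, Cyc.sheafFun, if_pos hx, if_pos hx, Module.length_eq_zero, Module.length_eq_zero,
      Ord.divFun_eq_zero_of_not_specializes δ _ _ _ hsp, sub_self]
  have hlen : ∀ (f : J ξ c ⟶ Cyc.closureStructureSheaf ξ), Coh.IsCoh (cokernel f) →
      Function.Surjective (stalkMapₗ f ξ) →
      Module.length (X.presheaf.stalk x) ((cokernel f).presheaf.stalk x) ≠ ⊤ := fun f h1 h2 =>
    K0.Cycles.length_ne_top k hδ (cohLe_cokernel hδ hξ f h1 h2) hx
  have hF1 := hlen _ isCoh_cokernel_incl (surjective_incl_self hc)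
  have hF2 := hlen _ (isCoh_cokernel_quot hc) (surjective_quot_self hc)
  rw [Cyc.sheafFun, Cyc.sheafFun, if_pos hx, if_pos hx, Cyc.divFun, dif_pos ⟨hsp, by omega⟩,
    ← idx_span hδ hx (⟨ξ, hξ, hsp⟩ : Big δ k x) hc]
  rw [length_cokernel_stalk] at hF1 hF2 ⊢
  rw [length_cokernel_stalk]
  refine idx_compare (⟨ξ, hξ, hsp⟩ : Big δ k x) hc rfl hF1 hF2
where
  idx_compare {δ : X → ℤ} {k : ℤ} {x : X} (i : Big δ k x) {c : X.presheaf.stalk i.1} (hc : IsUnit c)
      {A : Submodule (X.presheaf.stalk x) ((Cyc.closureStructureSheaf i.1).presheaf.stalk i.1)}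
      (hA : Submodule.span _ {oneAt i.1 i.1} = A)
      (hF1 : qlen ⊤ (LinearMap.range (stalkMapₗ (incl i.1 c) x)) ≠ ⊤)
      (hF2 : qlen ⊤ (LinearMap.range (stalkMapₗ (quot hc) x)) ≠ ⊤) :
      idx A (A.map (mulC i _ c)) =
        ((qlen ⊤ (LinearMap.range (stalkMapₗ (incl i.1 c) x))).toNat : ℤ) -
          ((qlen ⊤ (LinearMap.range (stalkMapₗ (quot hc) x))).toNat : ℤ) := by
    let O := Cyc.closureStructureSheaf i.1
    let sp : O.presheaf.stalk x →ₗ[X.presheaf.stalk x] O.presheaf.stalk i.1 :=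
      (LinearMap.proj i).comp (phi O δ k x)
    have hsp : ∀ v, sp v = O.presheaf.stalkSpecializes i.2.2 v := fun v => rfl
    have hsp' : LinearMap.range sp = A := by
      rw [← hA]
      refine le_antisymm ?_ ((Submodule.span_singleton_le_iff_mem _ _).2
        ⟨oneAt i.1 x, by rw [hsp, specializes_oneAt]⟩)
      rintro _ ⟨v, rfl⟩
      obtain ⟨r, rfl⟩ := exists_smul_oneAt i.1 x v
      rw [map_smul, hsp, specializes_oneAt]
      exact Submodule.smul_mem _ _ (Submodule.mem_span_singleton_self _)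
    let μ := mulC i O c
    have hμ : Function.Injective μ := fun a b h => hc.smul_left_cancel.1 h
    have r1 : LinearMap.range (stalkMapₗ (incl i.1 c) x) = (A ⊓ A.map μ).comap sp := by
      ext a
      rw [range_incl i.1 c i.2.2 a, Submodule.mem_comap]
      constructor
      · rintro ⟨b, hb⟩
        exact ⟨hsp' ▸ ⟨a, rfl⟩, ⟨sp b, hsp' ▸ ⟨b, rfl⟩, hb⟩⟩
      · rintro ⟨-, ⟨w, hw, hwa⟩⟩
        rw [← hsp'] at hw
        obtain ⟨b, rfl⟩ := hw
        exact ⟨b, hwa⟩
    have r2 : LinearMap.range (stalkMapₗ (quot hc) x) = ((A.map μ ⊓ A).comap μ).comap sp := by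
      ext b
      constructor
      · rintro ⟨j, rfl⟩
        refine ⟨⟨sp (stalkMapₗ (quot hc) x j), hsp' ▸ ⟨_, rfl⟩, rfl⟩, ?_⟩
        rw [← hsp']
        exact ⟨stalkMapₗ (incl i.1 c) x j, (quot_stalk hc i.2.2 j).symm⟩
      · rintro ⟨-, ha⟩
        rw [← hsp'] at ha
        obtain ⟨a, ha⟩ := ha
        obtain ⟨j, hj⟩ := (range_incl i.1 c i.2.2 a).2 ⟨b, ha.symm⟩
        refine ⟨j, injective_specializes i.2.2 (hc.smul_left_cancel.1 ?_)⟩
        rw [quot_stalk hc i.2.2 j, hj]
        exact ha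
    have htop : (⊤ : Submodule (X.presheaf.stalk x) (O.presheaf.stalk x)) = A.comap sp := by
      rw [← hsp', eq_comm, eq_top_iff]
      exact fun v _ => ⟨v, rfl⟩
    have q1 : qlen ⊤ (LinearMap.range (stalkMapₗ (incl i.1 c) x)) = qlen A (A.map μ) := by
      rw [r1, htop, qlen_comap sp hsp'.ge, qlen_inf]
    have q2 : qlen ⊤ (LinearMap.range (stalkMapₗ (quot hc) x)) = qlen (A.map μ) A := by
      rw [r2, htop, qlen_comap sp hsp'.ge]
      have e : qlen ((A.map μ).comap μ) ((A.map μ ⊓ A).comap μ) = qlen (A.map μ) (A.map μ ⊓ A) :=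
        qlen_comap μ LinearMap.map_le_range
      rw [Submodule.comap_map_eq_of_injective hμ] at e
      rw [e, qlen_inf]
    rw [idx, ← q1, ← q2]

end

end Groth.Agent.Lib.Cyc.Retr.Witness
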