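import Groth.Agent.Lib.Cyc.Retr.Frames

/-!
# Additivity of the index on short exact sequences
-/

set_option autoImplicit false
set_option linter.style.haveILetI false
universe u

open CategoryTheory AlgebraicGeometry IsLocalRing

namespace Groth.Agent.Lib.Cyc.Retr.Additive

open Groth.Agent.Lib Groth.Agent.Lib.Cyc Groth.Agent.Lib.Cyc.Retr Groth.Agent.Lib.Cyc.Retr.Point
  Groth.Agent.Lib.Cyc.Retr.Frames Groth.Agent.Lib.Modules.StalkModule

section One

variable {A V₁ V₂ V₃ : Type u} [CommRing A] [IsLocalRing A] [AddCommGroup V₁] [Module A V₁]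
  [AddCommGroup V₂] [Module A V₂] [AddCommGroup V₃] [Module A V₃]
  (f : V₁ →ₗ[A] V₂) (g : V₂ →ₗ[A] V₃)

theorem frame1_comap (hg : Function.Surjective g) (l : List V₂) (U : Submodule A V₃)
    (h : Flag.Frame1 U (l.map g)) : Flag.Frame1 (U.comap g) l := by
  induction l generalizing U with
  | nil =>
    have h : U = ⊤ := h
    exact h ▸ Submodule.comap_top g
  | cons v l ih =>
    obtain ⟨⟨h1, h2⟩, h3⟩ := h
    refine ⟨⟨h1, fun m hm => by rw [Submodule.mem_comap, map_smul]; exact h2 m hm⟩, ?_⟩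
    have e : U.comap g ⊔ Submodule.span A {v} = (U ⊔ Submodule.span A {g v}).comap g := by
      refine le_antisymm (sup_le (Submodule.comap_mono le_sup_left)
        ((Submodule.span_singleton_le_iff_mem _ _).2
          (Submodule.mem_sup_right (Submodule.mem_span_singleton_self _)))) fun w hw => ?_
      obtain ⟨x, hx, y, hy, hxy⟩ := Submodule.mem_sup.1 hw
      obtain ⟨c, rfl⟩ := Submodule.mem_span_singleton.1 hy
      rw [← sub_add_cancel w (c • v)]
      refine add_mem (Submodule.mem_sup_left ?_)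
        (Submodule.mem_sup_right (Submodule.smul_mem _ _ (Submodule.mem_span_singleton_self _)))
      rw [Submodule.mem_comap, map_sub, map_smul, ← hxy]
      simpa using hx
    rw [e]
    exact ih _ h3

theorem frame1_map_append (hf : Function.Injective f) (hg : Function.Surjective g)
    (hfg : Function.Exact f g) (l₁ : List V₁) (l₃ : List V₂) (U : Submodule A V₁)
    (h₁ : Flag.Frame1 U l₁) (h₃ : Flag.Frame1 (⊥ : Submodule A V₃) (l₃.map g)) :
    Flag.Frame1 (U.map f) (l₁.map f ++ l₃) := by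
  induction l₁ generalizing U with
  | nil =>
    have h₁ : U = ⊤ := h₁
    have := frame1_comap g hg l₃ ⊥ h₃
    rw [Submodule.comap_bot, hfg.linearMap_ker_eq] at this
    rw [h₁, Submodule.map_top]
    exact this
  | cons v l ih =>
    obtain ⟨⟨h1, h2⟩, h3⟩ := h₁
    refine ⟨⟨fun hm => h1 (by obtain ⟨y, hy, e⟩ := hm; exact hf e ▸ hy),
      fun m hm => ⟨m • v, h2 m hm, map_smul _ _ _⟩⟩, ?_⟩
    have e : U.map f ⊔ Submodule.span A {f v} = (U ⊔ Submodule.span A {v}).map f := by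
      rw [Submodule.map_sup, Submodule.map_span, Set.image_singleton]
    exact e ▸ ih _ h3

end One

open scoped Classical

variable {X : Scheme.{u}} [IsLocallyNoetherian X] {δ : X → ℤ} {k : ℤ} (hδ : Cyc.IsDimFun X δ)

omit [IsLocallyNoetherian X] in
theorem stalkMap_specializes {M N : X.Modules} (φ : M ⟶ N) {x ξ : X} (h : ξ ⤳ x)
    (v : M.presheaf.stalk x) :
    stalkMapₗ φ ξ (M.presheaf.stalkSpecializes h v) =
      N.presheaf.stalkSpecializes h (stalkMapₗ φ x v) := by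
  rw [stalkMapₗ_apply, stalkMapₗ_apply]
  exact ConcreteCategory.congr_hom
    (TopCat.Presheaf.stalkSpecializes_stalkFunctor_map φ.mapPresheaf h) v

omit [IsLocallyNoetherian X] in
theorem stalk_exact {T : ShortComplex X.Modules} (hT : T.ShortExact) (x : X) :
    Function.Injective (stalkMapₗ T.f x) ∧ Function.Surjective (stalkMapₗ T.g x) ∧
      Function.Exact (stalkMapₗ T.f x) (stalkMapₗ T.g x) := by
  have h := (Modules.Stalk.shortExact_iff_stalk T).mp hT x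
  exact ⟨h.ab_injective_f, h.ab_surjective_g,
    (ShortComplex.ab_exact_iff_function_exact _).mp h.exact⟩

theorem proj_map {M N : X.Modules} (φ : M ⟶ N) {x : X} (η : Big δ k x)
    (L : List (Σ ξ, V M δ k x ξ)) :
    Flag.proj η (L.map fun a => (⟨a.1, stalkMapₗ φ a.1.1 a.2⟩ : Σ ξ, V N δ k x ξ)) =
      (Flag.proj η L).map (stalkMapₗ φ η.1) := by
  induction L with
  | nil => rfl
  | cons a L ih =>
    rw [List.map_cons]
    by_cases h : a.1 = η
    · subst h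
      rw [Flag.proj_cons_self (⟨a.1, stalkMapₗ φ a.1.1 a.2⟩ : Σ ξ, V N δ k x ξ),
        Flag.proj_cons_self, ih, List.map_cons]
    · rw [Flag.proj_cons_ne (⟨a.1, stalkMapₗ φ a.1.1 a.2⟩ : Σ ξ, V N δ k x ξ) _ h,
        Flag.proj_cons_ne _ _ h, ih]

/-- Frames of the outer terms combine to a frame of the middle with the summed index. -/
theorem exists_dx_add {T : ShortComplex X.Modules} (hT : T.ShortExact)
    (h₁ : Cyc.CohLe δ (k + 1) T.X₁) (h₂ : Cyc.CohLe δ (k + 1) T.X₂)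
    (h₃ : Cyc.CohLe δ (k + 1) T.X₃) {F₁ : Fr T.X₁} (hF₁ : Valid δ k F₁) {F₃ : Fr T.X₃}
    (hF₃ : Valid δ k F₃) :
    ∃ F₂ : Fr T.X₂, Valid δ k F₂ ∧ ∀ x, δ x = k →
      dx hδ h₂ F₂ x = dx hδ h₁ F₁ x + dx hδ h₃ F₃ x := by
  have hex := fun x => stalk_exact hT x
  let lift : (ξ : X) → T.X₃.presheaf.stalk ξ → T.X₂.presheaf.stalk ξ :=
    fun ξ v => ((hex ξ).2.1 v).choose
  have hlift : ∀ ξ v, stalkMapₗ T.g ξ (lift ξ v) = v := fun ξ v => ((hex ξ).2.1 v).choose_spec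
  have hmap : ∀ ξ, ((F₃ ξ).map (lift ξ)).map (stalkMapₗ T.g ξ) = F₃ ξ := fun ξ => by
    rw [List.map_map]
    exact (List.map_congr_left fun v _ => hlift ξ v).trans (List.map_id _)
  let F₂ : Fr T.X₂ := fun ξ => (F₁ ξ).map (stalkMapₗ T.f ξ) ++ (F₃ ξ).map (lift ξ)
  have hF₂ : Valid δ k F₂ := fun ξ hξ => by
    obtain ⟨hi, hs, he⟩ := hex ξ
    have := frame1_map_append (stalkMapₗ T.f ξ) (stalkMapₗ T.g ξ) hi hs he (F₁ ξ)
      ((F₃ ξ).map (lift ξ)) ⊥ (hF₁ ξ hξ) (by rw [hmap]; exact hF₃ ξ hξ)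
    rwa [Submodule.map_bot] at this
  refine ⟨F₂, hF₂, fun x hx => ?_⟩
  let L₁ := blocks F₁ (suppList hδ h₁ x)
  let L₃ : List (Σ ξ, V T.X₂ δ k x ξ) :=
    (blocks F₃ (suppList hδ h₃ x)).map fun a => ⟨a.1, lift a.1.1 a.2⟩
  have hp₁ : ∀ η, Flag.proj η L₁ = F₁ η.1 := proj_suppList hδ h₁ hF₁ x
  have hp₃ : ∀ η, Flag.proj η L₃ = (F₃ η.1).map (lift η.1) := fun η => by
    rw [← proj_suppList hδ h₃ hF₃ x η]
    show Flag.proj η ((blocks F₃ (suppList hδ h₃ x)).map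
      fun a => (⟨a.1, lift a.1.1 a.2⟩ : Σ ξ, V T.X₂ δ k x ξ)) = _
    generalize blocks F₃ (suppList hδ h₃ x) = L
    induction L with
    | nil => rfl
    | cons a L ih =>
      by_cases h : a.1 = η
      · subst h
        rw [List.map_cons, Flag.proj_cons_self (⟨a.1, lift a.1.1 a.2⟩ : Σ ξ, V T.X₂ δ k x ξ),
          Flag.proj_cons_self, ih, List.map_cons]
      · rw [List.map_cons, Flag.proj_cons_ne (⟨a.1, lift a.1.1 a.2⟩ : Σ ξ, V T.X₂ δ k x ξ) _ h,
          Flag.proj_cons_ne _ _ h, ih]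
  have hp₂ : ∀ η, Flag.proj η ((L₁.map fun a => (⟨a.1, stalkMapₗ T.f a.1.1 a.2⟩ : Σ ξ, V T.X₂ δ k x ξ)) ++ L₃)
      = F₂ η.1 := fun η => by rw [Flag.proj_append, proj_map, hp₁, hp₃]
  have hp₃' : ∀ η, Flag.proj η (L₃.map fun a => (⟨a.1, stalkMapₗ T.g a.1.1 a.2⟩ : Σ ξ, V T.X₃ δ k x ξ))
      = F₃ η.1 := fun η => by rw [proj_map, hp₃, hmap]
  rw [dx_eq hδ h₂ hF₂ hx _ hp₂, dx_eq hδ h₁ hF₁ hx _ hp₁, dx_eq hδ h₃ hF₃ hx _ hp₃']
  exact Flag.D_add (φ₁ := phi T.X₁ δ k x) (φ₂ := phi T.X₂ δ k x) (φ₃ := phi T.X₃ δ k x) (fun ξ : Big δ k x => stalkMapₗ T.f ξ.1) (fun ξ => stalkMapₗ T.g ξ.1)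
    (geom hδ hx) (dat hδ h₁ hx) (dat hδ h₃ hx) (stalkMapₗ T.f x) (stalkMapₗ T.g x) (hex x).1
    (hex x).2.1 (hex x).2.2 (fun ξ => (hex ξ.1).1) (fun ξ => (hex ξ.1).2.1)
    (fun ξ => (hex ξ.1).2.2) (fun n ξ => (stalkMap_specializes T.f ξ.2.2 n).symm)
    (fun n ξ => (stalkMap_specializes T.g ξ.2.2 n).symm) L₁ (isFrame_of_proj hF₁ _ hp₁) L₃

end Groth.Agent.Lib.Cyc.Retr.Additive
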