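import Groth.Agent.Lib.Cyc.Retr.Main

/-!
# Relations in `K₀(Coh_{≤ a})/Coh_{≤ b}`
-/

set_option autoImplicit false
set_option linter.style.haveILetI false
universe u

open CategoryTheory CategoryTheory.Limits AlgebraicGeometry

namespace Groth.Agent.Lib.Cyc.Retr.K0Tools

open Groth.Agent.Lib Groth.Agent.Lib.Cyc.K0.Cycles

variable {X : Scheme.{u}} {δ : X → ℤ} {a b : ℤ}

theorem cohLe_mono {F : X.Modules} (h : b ≤ a) (hF : Cyc.CohLe δ b F) : Cyc.CohLe δ a F :=
  ⟨hF.1, fun x hx => (hF.2 x hx).trans h⟩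

theorem cl_of_epi [IsLocallyNoetherian X] {F G : X.Modules} (g : F ⟶ G) [Epi g]
    (hF : Cyc.CohLe δ a F) (hG : Coh.IsCoh G) :
    Cyc.toK0CohQuot δ a b F = Cyc.toK0CohQuot δ a b (kernel g) + Cyc.toK0CohQuot δ a b G := by
  have hk : Coh.IsCoh (kernel g) := CohBasics.Closure.isCoh_kernel g hF.1 hG.1
  exact mk_rel δ a b (Cyc.Dev.Basic.shortExact_of_epi g) (cohLe_of_mono (kernel.ι g) hk hF) hF
    (cohLe_of_epi g hG hF)

theorem cl_of_mono [IsLocallyNoetherian X] {F G : X.Modules} (f : F ⟶ G) [Mono f]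
    (hF : Coh.IsCoh F) (hG : Cyc.CohLe δ a G) :
    Cyc.toK0CohQuot δ a b G = Cyc.toK0CohQuot δ a b F + Cyc.toK0CohQuot δ a b (cokernel f) := by
  have hc : Coh.IsCoh (cokernel f) := CohBasics.Closure.isCoh_cokernel f hF.1 hG.1
  exact mk_rel δ a b (Cyc.Dev.Basic.shortExact_of_mono f) (cohLe_of_mono f hF hG) hG
    (cohLe_of_epi (cokernel.π f) hc hG)

theorem cl_iso [IsLocallyNoetherian X] {F G : X.Modules} (e : F ≅ G) (hF : Cyc.CohLe δ a F)
    (hG : Coh.IsCoh G) :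
    Cyc.toK0CohQuot δ a b F = Cyc.toK0CohQuot δ a b G := by
  have hz : IsZero (kernel e.hom) := isZero_kernel_of_mono e.hom
  have hk : Coh.IsCoh (kernel e.hom) := KRes.CohP.isCoh_of_isZero X hz
  have h0 : Cyc.CohLe δ b (kernel e.hom) := ⟨hk, fun x hx => absurd hx (by
    rw [not_nontrivial_iff_subsingleton]
    exact AddCommGrpCat.subsingleton_of_isZero ((Modules.Stalk.stalkFunctor X x).map_isZero hz))⟩
  rw [cl_of_epi e.hom hF hG, mk_eq_zero δ a b h0, zero_add]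

/-- Equal `K₀` classes for the two cohomologies of a periodic complex. -/
theorem cl_homology_eq [IsLocallyNoetherian X] {F : X.Modules} (hF : Cyc.CohLe δ a F)
    (φ ψ : F ⟶ F) (h : φ ≫ ψ = 0) (h' : ψ ≫ φ = 0) :
    Cyc.toK0CohQuot δ a b (ShortComplex.mk φ ψ h).homology =
      Cyc.toK0CohQuot δ a b (ShortComplex.mk ψ φ h').homology := by
  have key : ∀ (φ ψ : F ⟶ F) (h : φ ≫ ψ = 0),
      Cyc.toK0CohQuot δ a b (ShortComplex.mk φ ψ h).homology + Cyc.toK0CohQuot δ a b F =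
        Cyc.toK0CohQuot δ a b (kernel ψ) + Cyc.toK0CohQuot δ a b (kernel φ) := by
    intro φ ψ h
    have hkψ : Coh.IsCoh (kernel ψ) := CohBasics.Closure.isCoh_kernel ψ hF.1 hF.1.1
    let t : F ⟶ kernel ψ := kernel.lift ψ φ h
    have hkψ' := cohLe_of_mono (kernel.ι ψ) hkψ hF
    have hI : Coh.IsCoh (Abelian.image t) := CohBasics.Closure.isCoh_image t hF.1.1 hkψ
    have hct : Coh.IsCoh (cokernel t) := CohBasics.Closure.isCoh_cokernel t hF.1.1 hkψ
    have hct' := cohLe_of_epi (cokernel.π t) hct hkψ'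
    have e : (ShortComplex.mk φ ψ h).homology ≅ cokernel t :=
      (ShortComplex.LeftHomologyData.ofHasKernelOfHasCokernel (ShortComplex.mk φ ψ h)).homologyIso
    rw [← cl_iso e.symm hct' (CohBasics.Closure.isCoh_of_iso e.symm hct), cl_of_epi (cokernel.π t) hkψ' hct,
      cl_of_epi (Abelian.factorThruImage t) hF hI]
    let e2 : kernel (Abelian.factorThruImage t) ≅ kernel φ :=
      (kernelCompMono (Abelian.factorThruImage t) (Abelian.image.ι t)).symm ≪≫
        kernelIsoOfEq (Abelian.image.fac t) ≪≫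
        (kernelCompMono t (kernel.ι ψ)).symm ≪≫ kernelIsoOfEq (kernel.lift_ι _ _ _)
    have hk1 : Coh.IsCoh (kernel (Abelian.factorThruImage t)) :=
      CohBasics.Closure.isCoh_kernel _ hF.1 hI.1
    rw [cl_iso e2 (cohLe_of_mono (kernel.ι _) hk1 hF)
      (CohBasics.Closure.isCoh_kernel φ hF.1 hF.1.1)]
    abel
  have e1 := key φ ψ h
  have e2 := key ψ φ h'
  rw [add_comm (Cyc.toK0CohQuot δ a b (kernel φ))] at e2
  exact add_right_cancel (e1.trans e2.symm)

theorem isCoh_homology [IsLocallyNoetherian X] {F : X.Modules} (hF : Coh.IsCoh F)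
    (φ ψ : F ⟶ F) (h : φ ≫ ψ = 0) : Coh.IsCoh (ShortComplex.mk φ ψ h).homology :=
  CohBasics.Closure.isCoh_of_iso
    (ShortComplex.LeftHomologyData.ofHasKernelOfHasCokernel (ShortComplex.mk φ ψ h)).homologyIso.symm
    (CohBasics.Closure.isCoh_cokernel _ hF.1 (CohBasics.Closure.isCoh_kernel ψ hF hF.1))

end Groth.Agent.Lib.Cyc.Retr.K0Tools
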