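import Groth.Agent.Lib.Cyc.Retr.Perm
import Mathlib.Algebra.Exact.Basic

/-!
# Additivity of the framed index
-/

universe u

namespace Groth.Agent.Lib.Cyc.Retr.Flag

open Groth.Agent.Lib.Cyc.Retr.Idx Submodule IsLocalRing

set_option linter.style.haveILetI false
set_option linter.unusedSectionVars false

variable {R : Type u} [CommRing R] [IsLocalRing R] [IsNoetherianRing R] {ι : Type u}
  {S : ι → Type u} [∀ i, CommRing (S i)]
  [∀ i, IsLocalRing (S i)] [∀ i, Algebra R (S i)] [DecidableEq ι]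
  {V₁ : ι → Type u} [∀ i, AddCommGroup (V₁ i)] [∀ i, Module R (V₁ i)] [∀ i, Module (S i) (V₁ i)]
  [∀ i, IsScalarTower R (S i) (V₁ i)]
  {V₂ : ι → Type u} [∀ i, AddCommGroup (V₂ i)] [∀ i, Module R (V₂ i)] [∀ i, Module (S i) (V₂ i)]
  [∀ i, IsScalarTower R (S i) (V₂ i)]
  {V₃ : ι → Type u} [∀ i, AddCommGroup (V₃ i)] [∀ i, Module R (V₃ i)] [∀ i, Module (S i) (V₃ i)]
  [∀ i, IsScalarTower R (S i) (V₃ i)]

/-- A module with its localisations and finite kernel. -/
structure Dat {N : Type u} [AddCommGroup N] [Module R N] (φ : N →ₗ[R] ∀ i, V₁ i) : Prop where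
  ker : Module.length R (LinearMap.ker φ) < ⊤
  gen : Gen (S := S) (LinearMap.range φ)

/-- The framed index. -/
noncomputable def D (S : ι → Type u) [∀ i, CommRing (S i)] [∀ i, IsLocalRing (S i)]
    [∀ i, Algebra R (S i)] [∀ i, Module (S i) (V₁ i)] [∀ i, IsScalarTower R (S i) (V₁ i)]
    {N : Type u} [AddCommGroup N] [Module R N] (φ : N →ₗ[R] ∀ i, V₁ i) (L : List (Σ i, V₁ i)) : ℤ :=
  ((Module.length R (LinearMap.ker φ)).toNat : ℤ) +
    val (S := S) (LinearMap.range φ) (fun _ => ⊥) L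

theorem foldl_eq_top (L : List (Σ i, V₁ i)) (U : ∀ i, Submodule (S i) (V₁ i)) (h : IsFrame U L) :
    L.foldl upd U = fun _ => ⊤ := by
  induction L generalizing U with
  | nil => exact funext h
  | cons a L ih => exact ih _ h.2

variable (f : ∀ i, V₁ i →ₗ[S i] V₂ i) (g : ∀ i, V₂ i →ₗ[S i] V₃ i)

/-- the product of the maps -/
def prodMap (R : Type u) [CommRing R] [∀ i, Algebra R (S i)] [∀ i, Module R (V₁ i)]
    [∀ i, IsScalarTower R (S i) (V₁ i)] [∀ i, Module R (V₂ i)] [∀ i, IsScalarTower R (S i) (V₂ i)] :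
    (∀ i, V₁ i) →ₗ[R] ∀ i, V₂ i :=
  LinearMap.pi fun i => (f i).restrictScalars R ∘ₗ LinearMap.proj i

@[simp] theorem prodMap_apply (w : ∀ i, V₁ i) (i : ι) : prodMap f R w i = f i (w i) := rfl

theorem prodMap_injective (hf : ∀ i, Function.Injective (f i)) :
    Function.Injective (prodMap f R) := fun a b h => funext fun i => hf i (congrFun h i)

theorem prodMap_surjective (hg : ∀ i, Function.Surjective (g i)) :
    Function.Surjective (prodMap g R) := fun w =>
  ⟨fun i => (hg i (w i)).choose, funext fun i => (hg i (w i)).choose_spec⟩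

theorem prodMap_single (a : Σ i, V₁ i) :
    prodMap f R (single a) = single (⟨a.1, f a.1 a.2⟩ : Σ i, V₂ i) := by
  funext i
  rw [prodMap_apply]
  exact Pi.apply_single (fun i => f i) (fun i => map_zero _) a.1 a.2 i

/-- image family -/
def mapS (U : ∀ i, Submodule (S i) (V₁ i)) : ∀ i, Submodule (S i) (V₂ i) := fun i => (U i).map (f i)

/-- preimage family -/
def comapS (U : ∀ i, Submodule (S i) (V₃ i)) : ∀ i, Submodule (S i) (V₂ i) :=
  fun i => (U i).comap (g i)

theorem piU_mapS (U : ∀ i, Submodule (S i) (V₁ i)) :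
    piU R (mapS f U) = (piU R U).map (prodMap f R) := by
  ext w
  rw [mem_piU]
  constructor
  · intro h
    choose v hv hvw using fun i => h i
    exact ⟨v, mem_piU.2 hv, funext hvw⟩
  · rintro ⟨v, hv, rfl⟩ i
    exact ⟨v i, mem_piU.1 hv i, rfl⟩

theorem piU_comapS (U : ∀ i, Submodule (S i) (V₃ i)) :
    piU R (comapS g U) = (piU R U).comap (prodMap g R) := by
  ext w
  simp [mem_piU, comapS]

theorem upd_mapS (U : ∀ i, Submodule (S i) (V₁ i)) (a : Σ i, V₁ i) :
    upd (mapS f U) ⟨a.1, f a.1 a.2⟩ = mapS f (upd U a) := by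
  funext i
  by_cases h : i = a.1
  · subst h
    rw [upd_same (mapS f U) (⟨a.1, f a.1 a.2⟩ : Σ i, V₂ i), mapS, mapS, upd_same, Submodule.map_sup,
      Submodule.map_span, Set.image_singleton]
  · rw [upd_ne (mapS f U) (⟨a.1, f a.1 a.2⟩ : Σ i, V₂ i) h, mapS, mapS, upd_ne U a h]

theorem upd_comapS (U : ∀ i, Submodule (S i) (V₃ i)) (a : Σ i, V₂ i) :
    upd (comapS g U) a = comapS g (upd U ⟨a.1, g a.1 a.2⟩) := by
  funext i
  by_cases h : i = a.1
  · subst h
    rw [upd_same, comapS, comapS, upd_same U (⟨a.1, g a.1 a.2⟩ : Σ i, V₃ i)]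
    refine le_antisymm (sup_le (Submodule.comap_mono le_sup_left)
      ((Submodule.span_singleton_le_iff_mem _ _).2
        (Submodule.mem_sup_right (Submodule.mem_span_singleton_self _)))) fun v hv => ?_
    obtain ⟨x, hx, y, hy, hxy⟩ := Submodule.mem_sup.1 hv
    obtain ⟨c, rfl⟩ := Submodule.mem_span_singleton.1 hy
    rw [← sub_add_cancel v (c • a.2)]
    refine add_mem (Submodule.mem_sup_left ?_)
      (Submodule.mem_sup_right (Submodule.smul_mem _ _ (Submodule.mem_span_singleton_self _)))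
    rw [Submodule.mem_comap, map_sub, map_smul, ← hxy]
    simpa using hx
  · rw [upd_ne (comapS g U) a h, comapS, comapS, upd_ne U (⟨a.1, g a.1 a.2⟩ : Σ i, V₃ i) h]

theorem ok_mapS (hf : ∀ i, Function.Injective (f i)) {U : ∀ i, Submodule (S i) (V₁ i)}
    {a : Σ i, V₁ i} (h : OK U a) : OK (mapS f U) ⟨a.1, f a.1 a.2⟩ :=
  ⟨fun hm => h.1 (by obtain ⟨y, hy, e⟩ := hm; exact hf _ e ▸ hy),
    fun m hm => ⟨m • a.2, h.2 m hm, map_smul _ _ _⟩⟩

theorem ok_comapS {U : ∀ i, Submodule (S i) (V₃ i)}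
    {a : Σ i, V₂ i} (h : OK U ⟨a.1, g a.1 a.2⟩) : OK (comapS g U) a :=
  ⟨h.1, fun m hm => by rw [comapS, Submodule.mem_comap, map_smul]; exact h.2 m hm⟩

theorem val_map (hG : Geom R S) (hf : ∀ i, Function.Injective (f i))
    {P₁ : Submodule R (∀ i, V₁ i)} {P₂ : Submodule R (∀ i, V₂ i)} (hP₁ : Gen (S := S) P₁)
    (hC : Comm (P₂ ⊓ LinearMap.range (prodMap f R)) (P₁.map (prodMap f R)))
    (L : List (Σ i, V₁ i)) (U : ∀ i, Submodule (S i) (V₁ i)) (hL : IsFrame U L) :
    val P₂ (mapS f U) (L.map fun a => (⟨a.1, f a.1 a.2⟩ : Σ i, V₂ i)) =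
      val P₁ U L + (idx (P₂ ⊓ LinearMap.range (prodMap f R)) (P₁.map (prodMap f R)) -
        idx (P₂ ⊓ piU R (mapS f U)) (P₁.map (prodMap f R) ⊓ piU R (mapS f U))) := by
  let F := prodMap f R
  have hle : ∀ U : ∀ i, Submodule (S i) (V₁ i), piU R (mapS f U) ≤ LinearMap.range F := fun U => by
    rw [piU_mapS]; exact LinearMap.map_le_range
  have hC' : ∀ U : ∀ i, Submodule (S i) (V₁ i),
      Comm (P₂ ⊓ piU R (mapS f U)) (P₁.map F ⊓ piU R (mapS f U)) := fun U => by
    have := hC.inf (piU R (mapS f U))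
    rwa [inf_assoc, inf_eq_right.2 (hle U)] at this
  induction L generalizing U with
  | nil =>
    have hU : piU R (mapS f U) = LinearMap.range F := by
      rw [piU_mapS, show U = fun _ => ⊤ from funext hL, piU_top, Submodule.map_top]
    rw [List.map_nil, val, val, hU, inf_eq_left.2 (LinearMap.map_le_range : P₁.map F ≤ _)]
    simp [F]
  | cons a L ih =>
    have hWT : piU R (mapS f U) ≤ piU R (mapS f (upd U a)) :=
      piU_mono fun i => Submodule.map_mono (le_upd U a i)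
    have e : ∀ G : Submodule R (∀ i, V₂ i),
        G ⊓ piU R (mapS f (upd U a)) ⊓ piU R (mapS f U) = G ⊓ piU R (mapS f U) := fun G => by
      rw [inf_assoc, inf_eq_right.2 hWT]
    have hs := idx_split (hC' (upd U a)) (piU R (mapS f U))
    rw [e, e] at hs
    rw [List.map_cons, val, upd_mapS, ih _ hL.2, val]
    have hlat : (lat P₁ U a).map F = P₁.map F ⊓ piU R (mapS f (upd U a)) ⊔ piU R (mapS f U) := by
      rw [lat, Submodule.map_sup, Submodule.map_inf F (prodMap_injective f hf), piU_mapS, piU_mapS]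
    have href : (ref R U a).map F = ref R (mapS f U) (⟨a.1, f a.1 a.2⟩ : Σ i, V₂ i) := by
      rw [ref, ref, Submodule.map_sup, Submodule.map_span, Set.image_singleton, piU_mapS,
        prodMap_single]
    have hlat₂ : lat P₂ (mapS f U) (⟨a.1, f a.1 a.2⟩ : Σ i, V₂ i) =
        P₂ ⊓ piU R (mapS f (upd U a)) ⊔ piU R (mapS f U) := by
      rw [lat, upd_mapS]
    rw [hlat₂, ← href]
    have c1 : Comm ((lat P₁ U a).map F) ((ref R U a).map F) := (comm_step hG hP₁ hL.1).map F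
    have c0 : Comm (P₂ ⊓ piU R (mapS f (upd U a)) ⊔ piU R (mapS f U)) ((lat P₁ U a).map F) := by
      rw [hlat]; exact comm_sup (hC' (upd U a)) _
    rw [← idx_trans c0 c1, idx_map_of_injective F (prodMap_injective f hf), hlat]
    linarith

theorem val_comap (hg : ∀ i, Function.Surjective (g i))
    {P₂ : Submodule R (∀ i, V₂ i)} {P₃ : Submodule R (∀ i, V₃ i)}
    (hP : P₂.map (prodMap g R) = P₃)
    (L : List (Σ i, V₂ i)) (U : ∀ i, Submodule (S i) (V₃ i)) :
    val P₂ (comapS g U) L =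
      val P₃ U (L.map fun a => (⟨a.1, g a.1 a.2⟩ : Σ i, V₃ i)) := by
  let G := prodMap g R
  have hr : ∀ A : Submodule R (∀ i, V₃ i), A ≤ LinearMap.range G := fun A => by
    rw [LinearMap.range_eq_top.2 (prodMap_surjective g hg)]; exact le_top
  induction L generalizing U with
  | nil => rfl
  | cons a L ih =>
    rw [List.map_cons, val, val, upd_comapS, ih]
    congr 1
    let a' : Σ i, V₃ i := ⟨a.1, g a.1 a.2⟩
    have hmono : (piU R U) ≤ piU R (upd U a') := piU_mono (le_upd U a')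
    have hlat : lat P₂ (comapS g U) a = (lat P₃ U a').comap G := by
      rw [lat, lat, upd_comapS, piU_comapS, piU_comapS]
      refine le_antisymm (sup_le (fun w hw => Submodule.mem_sup_left ⟨hP ▸ ⟨w, hw.1, rfl⟩, hw.2⟩)
        (Submodule.comap_mono le_sup_right)) fun w hw => ?_
      obtain ⟨x, ⟨hx, hxT⟩, y, hy, hxy⟩ := Submodule.mem_sup.1 hw
      rw [← hP] at hx
      obtain ⟨n, hn, rfl⟩ := hx
      rw [← sub_add_cancel w n, add_comm]
      refine Submodule.add_mem_sup ⟨hn, hxT⟩ ?_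
      rw [Submodule.mem_comap, map_sub, ← hxy]
      simpa using hy
    have href : ref R (comapS g U) a = (ref R U a').comap G := by
      rw [ref, ref, piU_comapS]
      refine le_antisymm (sup_le ((Submodule.span_singleton_le_iff_mem _ _).2
        (Submodule.mem_sup_left ?_)) (Submodule.comap_mono le_sup_right)) fun w hw => ?_
      · rw [prodMap_single]; exact Submodule.mem_span_singleton_self _
      obtain ⟨x, hx, y, hy, hxy⟩ := Submodule.mem_sup.1 hw
      obtain ⟨c, rfl⟩ := Submodule.mem_span_singleton.1 hx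
      rw [← sub_add_cancel w (c • single a), add_comm]
      refine Submodule.add_mem_sup (Submodule.smul_mem _ _ (Submodule.mem_span_singleton_self _)) ?_
      rw [Submodule.mem_comap, map_sub, map_smul, prodMap_single, ← hxy]
      simpa [a'] using hy
    rw [hlat, href, idx_comap G (hr _) (hr _)]

variable {N₁ N₂ N₃ : Type u} [AddCommGroup N₁] [Module R N₁] [AddCommGroup N₂] [Module R N₂]
  [AddCommGroup N₃] [Module R N₃] {φ₁ : N₁ →ₗ[R] ∀ i, V₁ i} {φ₂ : N₂ →ₗ[R] ∀ i, V₂ i}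
  {φ₃ : N₃ →ₗ[R] ∀ i, V₃ i}

/-- Concatenated frames add up. -/
theorem D_add (hG : Geom R S) (hd₁ : Dat (S := S) φ₁)
    (hd₃ : Dat (S := S) φ₃) (f₀ : N₁ →ₗ[R] N₂) (g₀ : N₂ →ₗ[R] N₃) (hf₀ : Function.Injective f₀)
    (hg₀ : Function.Surjective g₀) (hfg₀ : Function.Exact f₀ g₀)
    (hf : ∀ i, Function.Injective (f i)) (hg : ∀ i, Function.Surjective (g i))
    (hfg : ∀ i, Function.Exact (f i) (g i))
    (cf : ∀ n i, φ₂ (f₀ n) i = f i (φ₁ n i)) (cg : ∀ n i, φ₃ (g₀ n) i = g i (φ₂ n i))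
    (L₁ : List (Σ i, V₁ i)) (h₁ : IsFrame (S := S) (fun _ => ⊥) L₁) (L₃ : List (Σ i, V₂ i)) :
    D S φ₂ ((L₁.map fun a => (⟨a.1, f a.1 a.2⟩ : Σ i, V₂ i)) ++ L₃) =
      D S φ₁ L₁ + D S φ₃ (L₃.map fun a => (⟨a.1, g a.1 a.2⟩ : Σ i, V₃ i)) := by
  let F := prodMap f R
  let G := prodMap g R
  have eF : ∀ n, φ₂ (f₀ n) = F (φ₁ n) := fun n => funext (cf n)
  have eG : ∀ n, φ₃ (g₀ n) = G (φ₂ n) := fun n => funext (cg n)
  have hFG : LinearMap.range F = LinearMap.ker G := by
    ext w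
    rw [LinearMap.mem_ker, funext_iff]
    constructor
    · rintro ⟨v, rfl⟩ i; exact (hfg i).apply_apply_eq_zero (v i)
    · intro h
      choose v hv using fun i => (hfg i (w i)).1 (h i)
      exact ⟨v, funext hv⟩
  let K := (LinearMap.ker φ₃).comap g₀
  have hK : K = (LinearMap.ker G).comap φ₂ := by
    ext n
    simp only [K, Submodule.mem_comap, LinearMap.mem_ker, eG]
  have hb : (⊥ : Submodule R N₃).comap g₀ = LinearMap.range f₀ := by
    rw [Submodule.comap_bot, ← hfg₀.linearMap_ker_eq]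
  have htop : ∀ A : Submodule R N₃, A ≤ LinearMap.range g₀ := fun A => by
    rw [LinearMap.range_eq_top.2 hg₀]; exact le_top
  have cK : Comm K (LinearMap.range f₀) :=
    hb ▸ comm_comap g₀ (htop _) (htop _) (comm_of_le bot_le (by rw [qlen_bot]; exact hd₃.ker))
  have iK : idx K (LinearMap.range f₀) = ((Module.length R (LinearMap.ker φ₃)).toNat : ℤ) := by
    rw [← hb, idx_comap g₀ (htop _) (htop _), idx_bot]
  have m1 : K.map φ₂ = LinearMap.range φ₂ ⊓ LinearMap.range F := by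
    rw [hK, Submodule.map_comap_eq, hFG]
  have m2 : (LinearMap.range f₀).map φ₂ = (LinearMap.range φ₁).map F := by
    ext w
    constructor
    · rintro ⟨_, ⟨n, rfl⟩, rfl⟩; exact ⟨φ₁ n, ⟨n, rfl⟩, (eF n).symm⟩
    · rintro ⟨_, ⟨n, rfl⟩, rfl⟩; exact ⟨f₀ n, ⟨n, rfl⟩, eF n⟩
  have k1 : K ⊓ LinearMap.ker φ₂ = LinearMap.ker φ₂ := inf_eq_right.2 fun n hn => by
    rw [hK, Submodule.mem_comap, LinearMap.mem_ker.1 hn]; exact zero_mem _
  have k2 : LinearMap.range f₀ ⊓ LinearMap.ker φ₂ = (LinearMap.ker φ₁).map f₀ := by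
    ext w
    constructor
    · rintro ⟨⟨n, rfl⟩, hn⟩
      rw [SetLike.mem_coe, LinearMap.mem_ker, eF] at hn
      exact ⟨n, prodMap_injective f hf (hn.trans (map_zero F).symm), rfl⟩
    · rintro ⟨n, hn, rfl⟩
      exact ⟨⟨n, rfl⟩, by rw [SetLike.mem_coe, LinearMap.mem_ker, eF, LinearMap.mem_ker.1 hn, map_zero]⟩
  have hC := cK.map φ₂
  rw [m1, m2] at hC
  have hker := idx_map_add cK φ₂
  rw [iK, m1, m2, k1, k2] at hker
  have c2 : Comm (LinearMap.ker φ₂) ((LinearMap.ker φ₁).map f₀) := by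
    have := cK.inf (LinearMap.ker φ₂); rwa [k1, k2] at this
  have c3 : Comm ((LinearMap.ker φ₁).map f₀) ⊥ := by
    have := (comm_of_le (bot_le : ⊥ ≤ LinearMap.ker φ₁) (by rw [qlen_bot]; exact hd₁.ker)).map f₀
    rwa [Submodule.map_bot] at this
  have i2 := idx_trans c2 c3
  have i3 : idx ((LinearMap.ker φ₁).map f₀) ⊥ = idx (LinearMap.ker φ₁) ⊥ := by
    rw [← idx_map_of_injective f₀ hf₀ (A := LinearMap.ker φ₁) (B := ⊥), Submodule.map_bot]
  rw [i3, idx_bot, idx_bot] at i2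
  have hbot : (fun _ => ⊥ : ∀ i, Submodule (S i) (V₂ i)) = mapS f (fun _ => ⊥) :=
    funext fun i => (Submodule.map_bot (f i)).symm
  have hmid : (L₁.map fun a => (⟨a.1, f a.1 a.2⟩ : Σ i, V₂ i)).foldl upd (mapS f fun _ => ⊥) =
      comapS g (fun _ => ⊥) := by
    have : ∀ (L : List (Σ i, V₁ i)) U,
        (L.map fun a => (⟨a.1, f a.1 a.2⟩ : Σ i, V₂ i)).foldl upd (mapS f U) =
          mapS f (L.foldl upd U) := by
      intro L
      induction L with
      | nil => intro U; rfl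
      | cons a L ih => intro U; rw [List.map_cons, List.foldl_cons, upd_mapS, ih, List.foldl_cons]
    rw [this, foldl_eq_top L₁ _ h₁]
    funext i
    rw [mapS, comapS, Submodule.map_top, Submodule.comap_bot, (hfg i).linearMap_ker_eq]
  have hP3 : (LinearMap.range φ₂).map G = LinearMap.range φ₃ := by
    ext w
    constructor
    · rintro ⟨_, ⟨n, rfl⟩, rfl⟩; exact ⟨g₀ n, eG n⟩
    · rintro ⟨n, rfl⟩
      obtain ⟨n, rfl⟩ := hg₀ n
      exact ⟨φ₂ n, ⟨n, rfl⟩, (eG n).symm⟩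
  have h0 : piU R (mapS f fun i => (⊥ : Submodule (S i) (V₁ i))) = ⊥ := by rw [← hbot, piU_bot]
  have v1 := val_map f hG hf hd₁.gen hC L₁ _ h₁
  rw [h0, inf_bot_eq, inf_bot_eq, idx_self, sub_zero] at v1
  rw [D, D, D, hbot, val_append, hmid, val_comap g hg hP3, v1]
  linarith

end Groth.Agent.Lib.Cyc.Retr.Flag
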