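import Groth.Agent.Lib.Cyc.Retr.Idx
import Groth.Agent.Lib.CycAlg.Smul
import Mathlib.RingTheory.OrderOfVanishing.Basic
import Mathlib.RingTheory.LocalRing.Basic
import Mathlib.RingTheory.Support
import Mathlib.LinearAlgebra.Pi

/-!
# The index of a module with respect to frames at its one-dimensional primes
-/

universe u

namespace Groth.Agent.Lib.Cyc.Retr.Flag

open Groth.Agent.Lib.Cyc.Retr.Idx Submodule IsLocalRing

set_option linter.style.haveILetI false
set_option linter.unusedSectionVars false

variable {R : Type u} [CommRing R] {ι : Type u} {S : ι → Type u} [∀ i, CommRing (S i)]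
  [∀ i, IsLocalRing (S i)] [∀ i, Algebra R (S i)]
  {V : ι → Type u} [∀ i, AddCommGroup (V i)] [∀ i, Module R (V i)] [∀ i, Module (S i) (V i)]
  [∀ i, IsScalarTower R (S i) (V i)] [DecidableEq ι]

variable (R S) in
/-- The prime of `R` below the closed point of `S i`. -/
def q (i : ι) : Ideal R := (maximalIdeal (S i)).comap (algebraMap R (S i))

variable (R S) in
/-- `R` is one-dimensional along each `q i`, with residue field that of `S i`. -/
structure Geom [IsLocalRing R] : Prop where
  frac : ∀ i (a : S i), ∃ r s : R, algebraMap R (S i) s ∉ maximalIdeal (S i) ∧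
    algebraMap R (S i) s * a - algebraMap R (S i) r ∈ maximalIdeal (S i)
  one : ∀ i (p : Ideal R), p.IsPrime → q R S i < p → p = maximalIdeal R

variable (R) in
/-- The product of a family of submodules. -/
def piU (U : ∀ i, Submodule (S i) (V i)) : Submodule R (∀ i, V i) :=
  Submodule.pi Set.univ fun i => (U i).restrictScalars R

theorem mem_piU {U : ∀ i, Submodule (S i) (V i)} {w : ∀ i, V i} :
    w ∈ piU R U ↔ ∀ i, w i ∈ U i := by
  simp [piU]

theorem piU_mono {U U' : ∀ i, Submodule (S i) (V i)} (h : ∀ i, U i ≤ U' i) :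
    piU R U ≤ piU R U' := fun _ hw => mem_piU.2 fun i => h i (mem_piU.1 hw i)

theorem piU_bot : piU R (fun i => (⊥ : Submodule (S i) (V i))) = ⊥ := by
  ext w
  simp [mem_piU, funext_iff]

theorem piU_top : piU R (fun i => (⊤ : Submodule (S i) (V i))) = ⊤ := by
  ext w
  simp [mem_piU]

/-- Enlarge `U` by one line. -/
def upd (U : ∀ i, Submodule (S i) (V i)) (a : Σ i, V i) : ∀ i, Submodule (S i) (V i) :=
  Function.update U a.1 (U a.1 ⊔ Submodule.span (S a.1) {a.2})

theorem upd_same (U : ∀ i, Submodule (S i) (V i)) (a : Σ i, V i) :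
    upd U a a.1 = U a.1 ⊔ Submodule.span (S a.1) {a.2} := Function.update_self ..

theorem upd_ne (U : ∀ i, Submodule (S i) (V i)) (a : Σ i, V i) {i : ι} (h : i ≠ a.1) :
    upd U a i = U i := Function.update_of_ne h ..

theorem le_upd (U : ∀ i, Submodule (S i) (V i)) (a : Σ i, V i) (i : ι) : U i ≤ upd U a i := by
  by_cases h : i = a.1
  · subst h; rw [upd_same]; exact le_sup_left
  · rw [upd_ne U a h]

theorem upd_comm (U : ∀ i, Submodule (S i) (V i)) (a b : Σ i, V i) :
    upd (upd U a) b = upd (upd U b) a := by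
  obtain ⟨i, v⟩ := a
  obtain ⟨j, w⟩ := b
  funext m
  by_cases hij : i = j
  · subst hij
    by_cases h : m = i
    · subst h; simp only [upd, Function.update_self]; ac_rfl
    · simp [upd, Function.update_of_ne h]
  · simp only [upd, Function.update_of_ne hij, Function.update_of_ne (Ne.symm hij)]
    rw [Function.update_comm hij]

/-- `v` spans a simple piece above `U`. -/
def OK (U : ∀ i, Submodule (S i) (V i)) (a : Σ i, V i) : Prop :=
  a.2 ∉ U a.1 ∧ ∀ m ∈ maximalIdeal (S a.1), m • a.2 ∈ U a.1

/-- An element of the coordinate `a.1`. -/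
abbrev single (a : Σ i, V i) : ∀ i, V i := Pi.single a.1 a.2

/-- A frame from `U` to the top. -/
def IsFrame : (∀ i, Submodule (S i) (V i)) → List (Σ i, V i) → Prop
  | U, [] => ∀ i, U i = ⊤
  | U, a :: L => OK U a ∧ IsFrame (upd U a) L

/-- The upper lattice of one step. -/
def lat (P : Submodule R (∀ i, V i)) (U : ∀ i, Submodule (S i) (V i)) (a : Σ i, V i) :
    Submodule R (∀ i, V i) :=
  P ⊓ piU R (upd U a) ⊔ piU R U

/-- The reference lattice of one step. -/
def ref (R : Type u) [CommRing R] [∀ i, Algebra R (S i)] [∀ i, Module R (V i)]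
    [∀ i, IsScalarTower R (S i) (V i)] (U : ∀ i, Submodule (S i) (V i)) (a : Σ i, V i) :
    Submodule R (∀ i, V i) :=
  Submodule.span R {single a} ⊔ piU R U

/-- The sum of the indices along a frame. -/
noncomputable def val (P : Submodule R (∀ i, V i)) :
    (∀ i, Submodule (S i) (V i)) → List (Σ i, V i) → ℤ
  | _, [] => 0
  | U, a :: L => idx (lat P U a) (ref R U a) + val P (upd U a) L

/-- `P` is finitely generated and generates all coordinates. -/
structure Gen (P : Submodule R (∀ i, V i)) : Prop where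
  fg : P.FG
  gen : ∀ i (v : V i), ∃ s : R, algebraMap R (S i) s ∉ maximalIdeal (S i) ∧
    s • (Pi.single i v : ∀ j, V j) ∈ P

theorem single_smul (a : Σ i, V i) (r : R) :
    r • single a = single ⟨a.1, algebraMap R (S a.1) r • a.2⟩ := by
  rw [single, single, algebraMap_smul]
  exact (Pi.single_smul (f := V) a.1 r a.2).symm

theorem smul_mem_of_OK {U : ∀ i, Submodule (S i) (V i)} {a : Σ i, V i} (h : OK U a) {r : R}
    (hr : r ∈ q R S a.1) {w : ∀ i, V i} (hw : w ∈ piU R (upd U a)) : r • w ∈ piU R U := by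
  refine mem_piU.2 fun i => ?_
  rw [Pi.smul_apply, ← algebraMap_smul (S i)]
  have := mem_piU.1 hw i
  by_cases hi : i = a.1
  · subst hi
    rw [upd_same, Submodule.mem_sup] at this
    obtain ⟨x, hx, y, hy, hxy⟩ := this
    obtain ⟨c, rfl⟩ := Submodule.mem_span_singleton.1 hy
    rw [← hxy, smul_add, smul_smul]
    exact add_mem (Submodule.smul_mem _ _ hx) (h.2 _ (Ideal.mul_mem_right _ _ hr))
  · rw [upd_ne U a hi] at this
    exact Submodule.smul_mem _ _ this

theorem single_mem_upd (U : ∀ i, Submodule (S i) (V i)) (a : Σ i, V i) :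
    single a ∈ piU R (upd U a) := by
  refine mem_piU.2 fun i => ?_
  by_cases hi : i = a.1
  · subst hi
    rw [single, Pi.single_eq_same, upd_same]
    exact Submodule.mem_sup_right (Submodule.mem_span_singleton_self _)
  · rw [single, Pi.single_eq_of_ne hi]; exact zero_mem _

theorem ref_le (U : ∀ i, Submodule (S i) (V i)) (a : Σ i, V i) : ref R U a ≤ piU R (upd U a) :=
  sup_le ((Submodule.span_singleton_le_iff_mem _ _).2 (single_mem_upd U a))
    (piU_mono (le_upd U a))

theorem lat_le (P : Submodule R (∀ i, V i)) (U : ∀ i, Submodule (S i) (V i)) (a : Σ i, V i) :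
    lat P U a ≤ piU R (upd U a) :=
  sup_le inf_le_right (piU_mono (le_upd U a))

section

variable [IsLocalRing R] [IsNoetherianRing R]

/-- A finite module killed by `q` elementwise and by something outside has finite length. -/
theorem length_lt_top (hG : Geom R S) (i : ι) (M : Type u) [AddCommGroup M] [Module R M]
    [Module.Finite R M] (hq : ∀ r ∈ q R S i, ∀ m : M, r • m = 0)
    (hs : ∀ m : M, ∃ s : R, s ∉ q R S i ∧ s • m = 0) : Module.length R M < ⊤ := by
  refine CycAlg.Smul.length_lt_top_of_supportDim_le_zero M ?_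
  have : Subsingleton (Module.support R M) := by
    refine ⟨fun a b => ?_⟩
    have key : ∀ a : Module.support R M, a.1.asIdeal = maximalIdeal R := fun a => by
      obtain ⟨m, hm⟩ := Module.mem_support_iff_exists_annihilator.1 a.2
      have hle : q R S i ≤ a.1.asIdeal := fun r hr =>
        hm (Submodule.mem_annihilator_span_singleton _ _ |>.2 (hq r hr m))
      refine hG.one i _ a.1.2 (lt_of_le_of_ne hle fun he => ?_)
      obtain ⟨s, hsq, hsm⟩ := hs m
      exact hsq (he ▸ hm ((Submodule.mem_annihilator_span_singleton _ _).2 hsm))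
    exact Subtype.ext (PrimeSpectrum.ext ((key a).trans (key b).symm))
  exact Order.krullDim_nonpos_of_subsingleton

theorem qlen_lt_top (hG : Geom R S) (i : ι) {A B : Submodule R (∀ i, V i)}
    (hA : ∃ F : Submodule R (∀ i, V i), F.FG ∧ F ≤ A ∧ A ≤ F ⊔ B)
    (hq : ∀ r ∈ q R S i, ∀ w ∈ A, r • w ∈ B)
    (hs : ∀ w ∈ A, ∃ s : R, s ∉ q R S i ∧ s • w ∈ B) : qlen A B < ⊤ := by
  obtain ⟨F, hF, hFA, hAF⟩ := hA
  haveI : Module.Finite R F := Module.Finite.iff_fg.2 hF
  haveI : Module.Finite R (↥A ⧸ B.comap A.subtype) :=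
    Module.Finite.of_surjective ((B.comap A.subtype).mkQ ∘ₗ Submodule.inclusion hFA) fun x => by
      obtain ⟨⟨w, hw⟩, rfl⟩ := Submodule.Quotient.mk_surjective _ x
      obtain ⟨f, hf, b, hb, rfl⟩ := Submodule.mem_sup.1 (hAF hw)
      refine ⟨⟨f, hf⟩, (Submodule.Quotient.eq _).2 ?_⟩
      show f - (f + b) ∈ B
      simpa using hb
  refine length_lt_top hG i _ (fun r hr m => ?_) fun m => ?_
  · obtain ⟨⟨w, hw⟩, rfl⟩ := Submodule.Quotient.mk_surjective _ m
    rw [← Submodule.Quotient.mk_smul, Submodule.Quotient.mk_eq_zero]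
    exact hq r hr w hw
  · obtain ⟨⟨w, hw⟩, rfl⟩ := Submodule.Quotient.mk_surjective _ m
    obtain ⟨s, hsq, hsw⟩ := hs w hw
    refine ⟨s, hsq, ?_⟩
    rw [← Submodule.Quotient.mk_smul, Submodule.Quotient.mk_eq_zero]
    exact hsw

theorem exists_smul_mem_ref (hG : Geom R S) {U : ∀ i, Submodule (S i) (V i)} {a : Σ i, V i}
    (h : OK U a) {w : ∀ i, V i} (hw : w ∈ piU R (upd U a)) :
    ∃ s : R, s ∉ q R S a.1 ∧ s • w ∈ ref R U a := by
  have := mem_piU.1 hw a.1
  rw [upd_same, Submodule.mem_sup] at this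
  obtain ⟨x, hx, y, hy, hxy⟩ := this
  obtain ⟨c, rfl⟩ := Submodule.mem_span_singleton.1 hy
  obtain ⟨r, s, hs, hrs⟩ := hG.frac a.1 c
  refine ⟨s, hs, ?_⟩
  have e : s • w = r • single a + (s • w - r • single a) := by abel
  rw [e]
  refine add_mem (Submodule.mem_sup_left (Submodule.smul_mem _ _ (Submodule.mem_span_singleton_self _)))
    (Submodule.mem_sup_right (mem_piU.2 fun i => ?_))
  rw [Pi.sub_apply, Pi.smul_apply, Pi.smul_apply]
  by_cases hi : i = a.1
  · subst hi
    rw [single, Pi.single_eq_same, ← algebraMap_smul (S a.1) s, ← algebraMap_smul (S a.1) r,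
      ← hxy, smul_add, smul_smul, add_sub_assoc, ← sub_smul]
    exact add_mem (Submodule.smul_mem _ _ hx) (h.2 _ hrs)
  · rw [single, Pi.single_eq_of_ne hi, smul_zero, sub_zero, ← algebraMap_smul (S i) s]
    have := mem_piU.1 hw i
    rw [upd_ne U a hi] at this
    exact Submodule.smul_mem _ _ this

theorem comm_step (hG : Geom R S) {P : Submodule R (∀ i, V i)} (hP : Gen (S := S) P)
    {U : ∀ i, Submodule (S i) (V i)} {a : Σ i, V i} (h : OK U a) :
    Comm (lat P U a) (ref R U a) := by
  obtain ⟨s₀, hs₀, hs₀P⟩ := hP.gen a.1 a.2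
  constructor
  · refine qlen_lt_top hG a.1 ⟨P ⊓ piU R (upd U a), ?_, le_sup_left, ?_⟩
      (fun r hr w hw => Submodule.mem_sup_right (smul_mem_of_OK h hr (lat_le P U a hw)))
      fun w hw => exists_smul_mem_ref hG h (lat_le P U a hw)
    · haveI := Module.Finite.iff_fg.2 hP.fg
      haveI := isNoetherian_submodule.1 (inferInstance : IsNoetherian R P)
      exact this _ inf_le_left
    · exact sup_le le_sup_left (le_sup_right.trans le_sup_right)
  · refine qlen_lt_top hG a.1 ⟨Submodule.span R {single a}, Submodule.fg_span_singleton _, le_sup_left, ?_⟩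
      (fun r hr w hw => Submodule.mem_sup_right (smul_mem_of_OK h hr (ref_le U a hw))) fun w hw => ?_
    · exact sup_le le_sup_left (le_sup_right.trans le_sup_right)
    · refine ⟨s₀, hs₀, ?_⟩
      obtain ⟨x, hx, y, hy, rfl⟩ := Submodule.mem_sup.1 hw
      obtain ⟨c, rfl⟩ := Submodule.mem_span_singleton.1 hx
      rw [smul_add, smul_comm s₀ c]
      exact add_mem (Submodule.mem_sup_left (Submodule.smul_mem _ _
        ⟨hs₀P, Submodule.smul_mem _ _ (single_mem_upd U a)⟩))
        (Submodule.mem_sup_right (Submodule.smul_mem _ _ hy))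

theorem comm_of_split {A B : Submodule R (∀ i, V i)} (hBA : B ≤ A) (W : Submodule R (∀ i, V i))
    (h1 : Comm (A ⊓ W) (B ⊓ W)) (h2 : Comm (A ⊔ W) (B ⊔ W)) : Comm A B := by
  refine comm_of_le hBA ?_
  rw [qlen_map_add hBA W.mkQ, Submodule.ker_mkQ, ENat.add_lt_top]
  refine ⟨h1.1, ?_⟩
  rw [← qlen_comap W.mkQ (by simp), Submodule.comap_map_mkQ, Submodule.comap_map_mkQ, sup_comm W,
    sup_comm W]
  exact h2.1

/-- Two adjacent steps may be exchanged. -/
theorem val_swap (hG : Geom R S) {P : Submodule R (∀ i, V i)} (hP : Gen (S := S) P)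
    {U : ∀ i, Submodule (S i) (V i)} {a b : Σ i, V i} (ha : OK U a) (hb : OK U b)
    (hab : OK (upd U a) b) (hba : OK (upd U b) a) (L : List (Σ i, V i)) :
    val P U (a :: b :: L) = val P U (b :: a :: L) := by
  have key : ∀ a b : Σ i, V i, OK U a → OK U b → OK (upd U a) b →
      idx (lat P U a) (ref R U a) + idx (lat P (upd U a) b) (ref R (upd U a) b) =
        idx (P ⊓ piU R (upd (upd U a) b) ⊔ piU R U)
          (Submodule.span R {single a} ⊔ Submodule.span R {single b} ⊔ piU R U) := by
    intro a b ha hb hab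
    let T := piU R (upd (upd U a) b)
    let Ta := piU R (upd U a)
    let W := piU R U
    have hWTa : W ≤ Ta := piU_mono (le_upd U a)
    have hTaT : Ta ≤ T := piU_mono (le_upd (upd U a) b)
    have haT : Submodule.span R {single a} ≤ Ta :=
      (Submodule.span_singleton_le_iff_mem _ _).2 (single_mem_upd U a)
    have hbT : Submodule.span R {single b} ≤ T :=
      (Submodule.span_singleton_le_iff_mem _ _).2 (single_mem_upd (upd U a) b)
    have hX1 : ∀ G : Submodule R (∀ i, V i), (G ⊓ T ⊔ W) ⊓ Ta = lat G U a := fun G => by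
      rw [sup_comm (G ⊓ T), sup_inf_assoc_of_le _ hWTa, inf_assoc, inf_eq_right.2 hTaT, lat,
        sup_comm W]
    have hX2 : ∀ G : Submodule R (∀ i, V i), (G ⊓ T ⊔ W) ⊔ Ta = lat G (upd U a) b := fun G => by
      rw [sup_assoc, sup_eq_right.2 hWTa]; rfl
    let Y := Submodule.span R {single a} ⊔ Submodule.span R {single b} ⊔ W
    have hY1 : Y ⊓ Ta = ref R U a := by
      refine le_antisymm ?_ (le_inf (sup_le (le_sup_left.trans le_sup_left) le_sup_right)
        (sup_le haT hWTa))
      rintro w ⟨hw, hwT⟩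
      obtain ⟨x, hx, z, hz, rfl⟩ := Submodule.mem_sup.1 hw
      obtain ⟨c, hc, d, hd, rfl⟩ := Submodule.mem_sup.1 hx
      obtain ⟨r, rfl⟩ := Submodule.mem_span_singleton.1 hd
      have hr : r • single b ∈ Ta := by
        have e : r • single b = (c + r • single b + z) - c - z := by abel
        rw [e]; exact sub_mem (sub_mem hwT (haT hc)) (hWTa hz)
      have hrW : r • single b ∈ W := by
        have hrb := mem_piU.1 hr b.1
        rw [Pi.smul_apply, single, Pi.single_eq_same, ← algebraMap_smul (S b.1) r] at hrb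
        have hm : algebraMap R (S b.1) r ∈ maximalIdeal (S b.1) := by
          by_contra hne
          rw [mem_maximalIdeal, mem_nonunits_iff, not_not] at hne
          exact hab.1 ((Submodule.smul_mem_iff_of_isUnit _ hne).1 hrb)
        refine mem_piU.2 fun i => ?_
        by_cases hi : i = b.1
        · subst hi
          rw [Pi.smul_apply, single, Pi.single_eq_same, ← algebraMap_smul (S b.1) r]
          exact hb.2 _ hm
        · rw [Pi.smul_apply, single, Pi.single_eq_of_ne hi, smul_zero]; exact zero_mem _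
      rw [add_assoc]
      exact add_mem (Submodule.mem_sup_left hc) (Submodule.mem_sup_right (add_mem hrW hz))
    have hY2 : Y ⊔ Ta = ref R (upd U a) b := by
      refine le_antisymm (sup_le (sup_le (sup_le (haT.trans le_sup_right) le_sup_left)
        (hWTa.trans le_sup_right)) le_sup_right) (sup_le ?_ le_sup_right)
      exact (le_sup_right.trans le_sup_left).trans le_sup_left
    let X := P ⊓ T ⊔ W
    let G := P ⊓ T ⊔ Submodule.span R {single a} ⊔ Submodule.span R {single b}
    have hG' : Gen (S := S) (P ⊔ Submodule.span R {single a} ⊔ Submodule.span R {single b}) :=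
      ⟨(hP.fg.sup (Submodule.fg_span_singleton _)).sup (Submodule.fg_span_singleton _),
        fun i v => (hP.gen i v).imp fun s hs =>
          ⟨hs.1, Submodule.mem_sup_left (Submodule.mem_sup_left hs.2)⟩⟩
    let P' := P ⊔ Submodule.span R {single a} ⊔ Submodule.span R {single b}
    let Z := P' ⊓ T ⊔ W
    have hXZ : X ≤ Z := sup_le_sup_right (inf_le_inf_right _ (le_sup_left.trans le_sup_left)) _
    have hYZ : Y ≤ Z := by
      refine sup_le (sup_le ?_ ?_) le_sup_right
      · exact (le_inf (le_sup_right.trans le_sup_left) (haT.trans hTaT)).trans le_sup_left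
      · exact (le_inf le_sup_right hbT).trans le_sup_left
    have c1 := comm_step hG hP ha
    have c2 := comm_step hG hP hab
    have c1' := comm_step hG hG' ha
    have c2' := comm_step hG hG' hab
    have cZX : Comm Z X := by
      refine comm_of_split hXZ Ta ?_ ?_
      · rw [hX1, hX1]; exact c1'.trans c1.symm
      · rw [hX2, hX2]; exact c2'.trans c2.symm
    have cZY : Comm Z Y := by
      refine comm_of_split hYZ Ta ?_ ?_
      · rw [hX1, hY1]; exact c1'
      · rw [hX2, hY2]; exact c2'
    rw [idx_split (cZX.symm.trans cZY) Ta, hX1, hX2, hY1, hY2]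
  simp only [val]
  rw [← add_assoc, ← add_assoc, key a b ha hb hab, key b a hb ha hba, upd_comm U b a,
    sup_comm (Submodule.span R {single b})]

/-- A cyclic piece. -/
theorem qlen_cyclic (hG : Geom R S) {U : ∀ i, Submodule (S i) (V i)} {a : Σ i, V i} (h : OK U a)
    {r : R} (hr : r ∉ q R S a.1) :
    qlen (ref R U a) (Submodule.span R {r • single a} ⊔ piU R U) =
        Ring.ord (R ⧸ q R S a.1) (Ideal.Quotient.mk _ r) ∧
      qlen (ref R U a) (Submodule.span R {r • single a} ⊔ piU R U) < ⊤ := by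
  let B := Submodule.span R {r • single a} ⊔ piU R U
  let A := ref R U a
  have hsA : single a ∈ A := Submodule.mem_sup_left (Submodule.mem_span_singleton_self _)
  let f : R →ₗ[R] ↥A ⧸ B.comap A.subtype :=
    (B.comap A.subtype).mkQ ∘ₗ LinearMap.toSpanSingleton R A ⟨single a, hsA⟩
  have hf : Function.Surjective f := fun x => by
    obtain ⟨⟨w, hw⟩, rfl⟩ := Submodule.Quotient.mk_surjective _ x
    obtain ⟨y, hy, z, hz, rfl⟩ := Submodule.mem_sup.1 hw
    obtain ⟨t, rfl⟩ := Submodule.mem_span_singleton.1 hy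
    refine ⟨t, (Submodule.Quotient.eq _).2 ?_⟩
    show t • single a - (t • single a + z) ∈ B
    simpa using Submodule.mem_sup_right hz
  have hker : LinearMap.ker f = q R S a.1 ⊔ Ideal.span {r} := by
    ext t
    rw [LinearMap.mem_ker]
    show Submodule.Quotient.mk (t • (⟨single a, hsA⟩ : A)) = 0 ↔ _
    rw [Submodule.Quotient.mk_eq_zero]
    show t • single a ∈ B ↔ _
    constructor
    · intro ht
      obtain ⟨y, hy, z, hz, hyz⟩ := Submodule.mem_sup.1 ht
      obtain ⟨c, rfl⟩ := Submodule.mem_span_singleton.1 hy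
      have hd : (t - c * r) ∈ q R S a.1 := by
        by_contra hne
        rw [q, Ideal.mem_comap, mem_maximalIdeal, mem_nonunits_iff, not_not] at hne
        have := mem_piU.1 hz a.1
        rw [eq_sub_of_add_eq' hyz, Pi.sub_apply, Pi.smul_apply, Pi.smul_apply, Pi.smul_apply,
          single, Pi.single_eq_same, smul_smul, ← sub_smul, ← algebraMap_smul (S a.1)] at this
        exact h.1 ((Submodule.smul_mem_iff_of_isUnit _ hne).1 this)
      have : t = (t - c * r) + c * r := by ring
      rw [this]
      exact add_mem (Submodule.mem_sup_left hd)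
        (Submodule.mem_sup_right (Ideal.mem_span_singleton'.2 ⟨c, rfl⟩))
    · intro ht
      obtain ⟨y, hy, z, hz, rfl⟩ := Submodule.mem_sup.1 ht
      obtain ⟨c, rfl⟩ := Ideal.mem_span_singleton'.1 hz
      rw [add_smul, mul_smul]
      exact add_mem (Submodule.mem_sup_right (smul_mem_of_OK h hy (single_mem_upd U a)))
        (Submodule.mem_sup_left (Submodule.smul_mem _ _ (Submodule.mem_span_singleton_self _)))
  refine ⟨?_, qlen_lt_top hG a.1 ⟨Submodule.span R {single a}, Submodule.fg_span_singleton _,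
      le_sup_left, sup_le le_sup_left (le_sup_right.trans le_sup_right)⟩
      (fun t ht w hw => Submodule.mem_sup_right (smul_mem_of_OK h ht (ref_le U a hw)))
      fun w hw => ⟨r, hr, ?_⟩⟩
  · rw [qlen, ← (f.quotKerEquivOfSurjective hf).length_eq, (Submodule.quotEquivOfEq _ _ hker).length_eq,
      Ring.ord]
    have hmap : (Ideal.span {r}).map (Ideal.Quotient.mk (q R S a.1)) =
        Ideal.span {Ideal.Quotient.mk (q R S a.1) r} := by
      rw [Ideal.map_span, Set.image_singleton]
    rw [← hmap, ← Module.length_eq_of_surjective (R := R ⧸ q R S a.1) (S := R) Ideal.Quotient.mk_surjective]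
    exact (DoubleQuot.quotQuotEquivQuotSupₐ R (q R S a.1) (Ideal.span {r})).toLinearEquiv.length_eq.symm
  · obtain ⟨y, hy, z, hz, rfl⟩ := Submodule.mem_sup.1 hw
    obtain ⟨c, rfl⟩ := Submodule.mem_span_singleton.1 hy
    rw [smul_add, smul_comm r c]
    exact add_mem (Submodule.mem_sup_left (Submodule.smul_mem _ _ (Submodule.mem_span_singleton_self _)))
      (Submodule.mem_sup_right (Submodule.smul_mem _ _ hz))

/-- Changing the generator of a step by the class of `r / s`. -/
theorem val_scale (hG : Geom R S) {P : Submodule R (∀ i, V i)} (hP : Gen (S := S) P)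
    {U : ∀ i, Submodule (S i) (V i)} {i : ι} {v v' : V i} (h : OK U ⟨i, v⟩) (h' : OK U ⟨i, v'⟩)
    {r s : R} (hr : r ∉ q R S i) (hs : s ∉ q R S i)
    (hvv : algebraMap R (S i) s • v' - algebraMap R (S i) r • v ∈ U i) (L : List (Σ i, V i)) :
    val P U (⟨i, v'⟩ :: L) - val P U (⟨i, v⟩ :: L) =
      ((Ring.ord (R ⧸ q R S i) (Ideal.Quotient.mk _ r)).toNat : ℤ) -
        ((Ring.ord (R ⧸ q R S i) (Ideal.Quotient.mk _ s)).toNat : ℤ) := by
  have hu : upd U ⟨i, v'⟩ = upd U ⟨i, v⟩ := by
    funext j
    by_cases hj : j = i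
    · subst hj
      rw [upd_same U ⟨j, v'⟩, upd_same U ⟨j, v⟩]
      have hs' : IsUnit (algebraMap R (S j) s) := by
        rwa [q, Ideal.mem_comap, mem_maximalIdeal, mem_nonunits_iff, not_not] at hs
      have hr' : IsUnit (algebraMap R (S j) r) := by
        rwa [q, Ideal.mem_comap, mem_maximalIdeal, mem_nonunits_iff, not_not] at hr
      have k1 : ∀ (c d : S j) (x y : V j), IsUnit c → c • y - d • x ∈ U j →
          y ∈ U j ⊔ Submodule.span (S j) {x} := fun c d x y hc hxy => by
        rw [← Submodule.smul_mem_iff_of_isUnit _ hc]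
        have : c • y = (c • y - d • x) + d • x := by abel
        rw [this]
        exact add_mem (Submodule.mem_sup_left hxy)
          (Submodule.mem_sup_right (Submodule.smul_mem _ _ (Submodule.mem_span_singleton_self _)))
      refine le_antisymm (sup_le le_sup_left ((Submodule.span_singleton_le_iff_mem _ _).2
        (k1 _ _ v v' hs' hvv))) (sup_le le_sup_left ((Submodule.span_singleton_le_iff_mem _ _).2
        (k1 _ (algebraMap R (S j) s) v' v hr' (by rw [← neg_sub]; exact neg_mem hvv))))
    · rw [upd_ne _ _ hj, upd_ne _ _ hj]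
  have hlat : lat P U ⟨i, v'⟩ = lat P U ⟨i, v⟩ := by rw [lat, lat, hu]
  have hC : Submodule.span R {s • single (⟨i, v'⟩ : Σ i, V i)} ⊔ piU R U =
      Submodule.span R {r • single (⟨i, v⟩ : Σ i, V i)} ⊔ piU R U := by
    have hd : s • single (⟨i, v'⟩ : Σ i, V i) - r • single (⟨i, v⟩ : Σ i, V i) ∈ piU R U := by
      refine mem_piU.2 fun j => ?_
      rw [Pi.sub_apply, Pi.smul_apply, Pi.smul_apply]
      by_cases hj : j = i
      · subst hj
        simpa [single, algebraMap_smul] using hvv
      · simp [single, Pi.single_eq_of_ne hj]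
    refine le_antisymm (sup_le ?_ le_sup_right) (sup_le ?_ le_sup_right) <;>
      rw [Submodule.span_singleton_le_iff_mem]
    · rw [← sub_add_cancel (s • single (⟨i, v'⟩ : Σ i, V i)) (r • single (⟨i, v⟩ : Σ i, V i))]
      exact add_mem (Submodule.mem_sup_right hd)
        (Submodule.mem_sup_left (Submodule.mem_span_singleton_self _))
    · rw [← sub_sub_cancel (s • single (⟨i, v'⟩ : Σ i, V i)) (r • single (⟨i, v⟩ : Σ i, V i))]
      exact sub_mem (Submodule.mem_sup_left (Submodule.mem_span_singleton_self _))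
        (Submodule.mem_sup_right hd)
  obtain ⟨e1, f1⟩ := qlen_cyclic hG h hr
  obtain ⟨e2, f2⟩ := qlen_cyclic hG h' (a := ⟨i, v'⟩) hs
  rw [hC] at e2 f2
  have l1 : Submodule.span R {r • single (⟨i, v⟩ : Σ i, V i)} ⊔ piU R U ≤ ref R U ⟨i, v⟩ :=
    sup_le_sup_right (Submodule.span_singleton_smul_le _ _ _) _
  have l2 : Submodule.span R {r • single (⟨i, v⟩ : Σ i, V i)} ⊔ piU R U ≤ ref R U ⟨i, v'⟩ :=
    hC ▸ sup_le_sup_right (Submodule.span_singleton_smul_le _ _ _) _
  have c := comm_step hG hP h
  have c1 := comm_of_le l1 f1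
  have c2 := comm_of_le l2 f2
  simp only [val, hu, hlat]
  rw [← idx_trans c (c1.trans c2.symm), ← idx_trans c1 c2.symm, idx_symm (ref R U ⟨i, v'⟩),
    idx_of_le l1, idx_of_le l2, e1, e2]
  ring

end

end Groth.Agent.Lib.Cyc.Retr.Flag
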