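import Groth.Agent.Lib.Cyc.Retr.Point

/-!
# Frames at all points of dimension `k + 1`
-/

set_option autoImplicit false
set_option linter.style.haveILetI false
universe u

open CategoryTheory AlgebraicGeometry IsLocalRing

namespace Groth.Agent.Lib.Cyc.Retr.Frames

open Groth.Agent.Lib Groth.Agent.Lib.Cyc Groth.Agent.Lib.Cyc.Retr Groth.Agent.Lib.Cyc.Retr.Point
  Groth.Agent.Lib.Modules.StalkModule

open scoped Classical

variable {X : Scheme.{u}} {δ : X → ℤ} {k : ℤ}

noncomputable section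

/-- A choice of elements at every point. -/
abbrev Fr (M : X.Modules) : Type u := (ξ : X) → List (M.presheaf.stalk ξ)

/-- Frames at all points of dimension `k + 1`. -/
def Valid (δ : X → ℤ) (k : ℤ) {M : X.Modules} (F : Fr M) : Prop :=
  ∀ ξ, δ ξ = k + 1 → Flag.Frame1 (⊥ : Submodule (X.presheaf.stalk ξ) (M.presheaf.stalk ξ)) (F ξ)

/-- The blocks along a list of points. -/
def blocks {M : X.Modules} (F : Fr M) {x : X} (l : List (Big δ k x)) :
    List (Σ ξ, V M δ k x ξ) :=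
  l.flatMap fun ξ => (F ξ.1).map (Sigma.mk ξ)

theorem proj_map_mk {M : X.Modules} {x : X} (ξ : Big δ k x) (l : List (V M δ k x ξ)) :
    Flag.proj ξ (l.map (Sigma.mk ξ) : List (Σ ξ, V M δ k x ξ)) = l := by
  induction l with
  | nil => rfl
  | cons a l ih =>
    rw [List.map_cons]
    exact (Flag.proj_cons_self (⟨ξ, a⟩ : Σ ξ, V M δ k x ξ) _).trans (congrArg (a :: ·) ih)

theorem proj_map_mk_ne {M : X.Modules} {x : X} {ξ η : Big δ k x} (h : ξ ≠ η)
    (l : List (V M δ k x ξ)) :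
    Flag.proj η (l.map (Sigma.mk ξ) : List (Σ ξ, V M δ k x ξ)) = [] := by
  induction l with
  | nil => rfl
  | cons a l ih => rw [List.map_cons, Flag.proj_cons_ne _ _ h, ih]

theorem proj_blocks {M : X.Modules} (F : Fr M) {x : X} (l : List (Big δ k x)) (hl : l.Nodup)
    (η : Big δ k x) : Flag.proj η (blocks F l) = if η ∈ l then F η.1 else [] := by
  induction l with
  | nil => rfl
  | cons ξ l ih =>
    rw [List.nodup_cons] at hl
    simp only [blocks, List.flatMap_cons] at ih ⊢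
    rw [Flag.proj_append, ih hl.2]
    by_cases h : ξ = η
    · subst h; rw [proj_map_mk, if_neg hl.1, if_pos List.mem_cons_self, List.append_nil]
    · rw [proj_map_mk_ne h, List.nil_append]
      simp [List.mem_cons, Ne.symm h]

variable [IsLocallyNoetherian X] (hδ : Cyc.IsDimFun X δ) {M : X.Modules}
  (hM : Cyc.CohLe δ (k + 1) M)

/-- The generalisations in the support. -/
def suppList (x : X) : List (Big δ k x) := (finite_big hδ hM x).toFinset.toList

theorem mem_suppList {x : X} (ξ : Big δ k x) :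
    ξ ∈ suppList hδ hM x ↔ Nontrivial (M.presheaf.stalk ξ.1) := by
  simp [suppList]

theorem nodup_suppList (x : X) : (suppList hδ hM x).Nodup := Finset.nodup_toList _

theorem nil_of_subsingleton {F : Fr M} (hF : Valid δ k F) {ξ : X} (hξ : δ ξ = k + 1)
    [Subsingleton (M.presheaf.stalk ξ)] : F ξ = [] := by
  have h := hF ξ hξ
  cases hl : F ξ with
  | nil => rfl
  | cons a l =>
    rw [hl] at h
    exact absurd (by rw [Subsingleton.elim a 0]; exact zero_mem _) h.1.1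

theorem proj_suppList {F : Fr M} (hF : Valid δ k F) (x : X) (η : Big δ k x) :
    Flag.proj η (blocks F (suppList hδ hM x)) = F η.1 := by
  rw [proj_blocks F _ (nodup_suppList hδ hM x)]
  split_ifs with h
  · rfl
  · rw [mem_suppList, not_nontrivial_iff_subsingleton] at h
    exact (nil_of_subsingleton hF η.2.1).symm

theorem isFrame_of_proj {F : Fr M} (hF : Valid δ k F) {x : X} (L : List (Σ ξ, V M δ k x ξ))
    (h : ∀ η, Flag.proj η L = F η.1) : Flag.IsFrame (S := S δ k x) (fun _ => ⊥) L :=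
  (Flag.isFrame_iff _ _).2 fun η => by rw [h]; exact hF η.1 η.2.1

/-- The local index. -/
def dx (F : Fr M) (x : X) : ℤ :=
  if δ x = k then Flag.D (S δ k x) (phi M δ k x) (blocks F (suppList hδ hM x)) else 0

theorem dx_eq {F : Fr M} (hF : Valid δ k F) {x : X} (hx : δ x = k)
    (L : List (Σ ξ, V M δ k x ξ)) (h : ∀ η, Flag.proj η L = F η.1) :
    dx hδ hM F x = Flag.D (S δ k x) (phi M δ k x) L := by
  rw [dx, if_pos hx, Flag.D, Flag.D,
    Flag.val_perm (geom hδ hx) (dat hδ hM hx).gen _ L _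
      (isFrame_of_proj hF _ (proj_suppList hδ hM hF x))
      fun η => (proj_suppList hδ hM hF x η).trans (h η).symm]

include hδ hM in
theorem exists_valid : ∃ F : Fr M, Valid δ k F := by
  have : ∀ ξ : X, ∃ l : List (M.presheaf.stalk ξ), δ ξ = k + 1 →
      Flag.Frame1 (⊥ : Submodule (X.presheaf.stalk ξ) (M.presheaf.stalk ξ)) l := fun ξ => by
    by_cases h : δ ξ = k + 1
    · obtain ⟨hn, ha⟩ := finiteLength hδ hM h
      obtain ⟨l, hl⟩ := Flag.exists_frame1 (⊥ : Submodule (X.presheaf.stalk ξ) (M.presheaf.stalk ξ))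
      exact ⟨l, fun _ => hl⟩
    · exact ⟨[], fun h' => absurd h' h⟩
  choose F hF using this
  exact ⟨F, hF⟩

/-- A module in dimension `≤ k` has index its length. -/
theorem dx_of_le (hM' : Cyc.CohLe δ k M) {F : Fr M} {x : X} (hx : δ x = k) :
    dx hδ hM F x = Cyc.sheafFun δ k M x := by
  have he : suppList hδ hM x = [] := List.eq_nil_iff_forall_not_mem.2 fun ξ hξ => by
    have := hM'.2 ξ.1 ((mem_suppList hδ hM ξ).1 hξ)
    have := ξ.2.1
    omega
  haveI : ∀ ξ : Big δ k x, Subsingleton (V M δ k x ξ) := fun ξ =>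
    not_nontrivial_iff_subsingleton.1 fun h => by
      have := hM'.2 ξ.1 h
      have := ξ.2.1
      omega
  have hk : LinearMap.ker (phi M δ k x) = ⊤ := eq_top_iff.2 fun v _ => Subsingleton.elim _ _
  rw [dx, if_pos hx, he, Flag.D, Cyc.sheafFun, if_pos hx, hk, Module.length_top]
  simp [blocks, Flag.val]

/-- Changing the frame at one point. -/
def E (δ : X → ℤ) (k : ℤ) (M : X.Modules) (ξ : X) (hξ : δ ξ = k + 1)
    (U : Submodule (X.presheaf.stalk ξ) (M.presheaf.stalk ξ)) (l l' : List (M.presheaf.stalk ξ)) :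
    Prop :=
  ∃ f : X.residueField ξ, f ≠ 0 ∧ ∀ (x : X) (_ : δ x = k) (hs : ξ ⤳ x)
    (P : Submodule (X.presheaf.stalk x) (∀ η : Big δ k x, V M δ k x η)) (_ : Flag.Gen (S := S δ k x) P)
    (W : ∀ η : Big δ k x, Submodule (S δ k x η) (V M δ k x η)) (_ : W ⟨ξ, hξ, hs⟩ = U)
    (T : List (Σ η, V M δ k x η)),
    Flag.val P W (l.map (Sigma.mk (⟨ξ, hξ, hs⟩ : Big δ k x)) ++ T) -
      Flag.val P W (l'.map (Sigma.mk (⟨ξ, hξ, hs⟩ : Big δ k x)) ++ T) = Cyc.ordAt x ξ hs f

omit [IsLocallyNoetherian X] in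
theorem ord_congr {R : Type u} [CommRing R] {I J : Ideal R} (h : I = J) (r : R) :
    Ring.ord (R ⧸ I) (Ideal.Quotient.mk I r) = Ring.ord (R ⧸ J) (Ideal.Quotient.mk J r) := by
  subst h; rfl

include hδ in
theorem val_scale_ord {x : X} (hx : δ x = k) (i : Big δ k x)
    {P : Submodule (X.presheaf.stalk x) (∀ η : Big δ k x, V M δ k x η)}
    (hP : Flag.Gen (S := S δ k x) P)
    (W : ∀ η : Big δ k x, Submodule (S δ k x η) (V M δ k x η))
    {v v' : V M δ k x i} (hv : Flag.OK1 (W i) v) (hv' : Flag.OK1 (W i) v') {c : S δ k x i}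
    (hc : IsUnit c) (hcv : v' - c • v ∈ W i) (T : List (Σ η, V M δ k x η)) :
    Flag.val P W (⟨i, v⟩ :: T) - Flag.val P W (⟨i, v'⟩ :: T) =
      Cyc.ordAt x i.1 i.2.2 (X.residue i.1 c)⁻¹ := by
  have hd : δ i.1 ≤ δ x + 1 := by have := i.2.1; omega
  have hne : X.residue i.1 c ≠ 0 := (hc.map (X.residue i.1).hom).ne_zero
  obtain ⟨r, s, hs', hrs⟩ := (geom hδ hx).frac i c
  have hs0 : Cyc.specMap x i.1 i.2.2 s ≠ 0 := fun h => hs' ((IsLocalRing.residue_eq_zero_iff _).1 h)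
  have hr' : r ∉ Flag.q (X.presheaf.stalk x) (S δ k x) i := fun hr => by
    have h2 := Ideal.add_mem _ hrs hr
    rw [sub_add_cancel] at h2
    rcases (IsLocalRing.maximalIdeal.isMaximal _).isPrime.mem_or_mem h2 with h | h
    · exact hs' h
    · exact (IsLocalRing.mem_maximalIdeal _).1 h hc
  have hr0 : Cyc.specMap x i.1 i.2.2 r ≠ 0 := fun h => hr' ((mem_q i r).2 h)
  have key := Flag.val_scale (geom hδ hx) hP (U := W) (i := i) (v := v) (v' := v') hv hv' hr'
    (s := s) hs' (by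
      have e : algebraMap (X.presheaf.stalk x) (S δ k x i) s • v' -
          algebraMap (X.presheaf.stalk x) (S δ k x i) r • v =
          algebraMap (X.presheaf.stalk x) (S δ k x i) s • (v' - c • v) +
            (algebraMap (X.presheaf.stalk x) (S δ k x i) s * c -
              algebraMap (X.presheaf.stalk x) (S δ k x i) r) • v := by
        rw [smul_sub, sub_smul, mul_smul]; abel
      rw [e]
      exact add_mem (Submodule.smul_mem _ _ hcv) (hv.2 _ hrs))
    T
  rw [ord_congr (q_eq i), ord_congr (q_eq i), ← Ord.ordAt_specMap hδ x i.1 i.2.2 hd r hr0,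
    ← Ord.ordAt_specMap hδ x i.1 i.2.2 hd s hs0] at key
  have hmul : X.residue i.1 c * Cyc.specMap x i.1 i.2.2 s = Cyc.specMap x i.1 i.2.2 r := by
    have h2 := (IsLocalRing.residue_eq_zero_iff _).2 hrs
    rw [map_sub, map_mul, sub_eq_zero] at h2
    exact (mul_comm _ _).trans h2
  rw [← hmul, Ord.ordAt_mul hδ x i.1 i.2.2 hd _ _ hne hs0] at key
  rw [Ord.ordAt_inv hδ x i.1 i.2.2 hd _ hne]
  linarith

include hδ hM in
theorem exists_change (ξ : X) (hξ : δ ξ = k + 1) {l l' : List (M.presheaf.stalk ξ)}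
    (hl : Flag.Frame1 (⊥ : Submodule (X.presheaf.stalk ξ) (M.presheaf.stalk ξ)) l)
    (hl' : Flag.Frame1 (⊥ : Submodule (X.presheaf.stalk ξ) (M.presheaf.stalk ξ)) l') :
    E δ k M ξ hξ ⊥ l l' := by
  obtain ⟨hn, ha⟩ := finiteLength hδ hM hξ
  refine (Flag.jh (E δ k M ξ hξ) ?_ ?_ ?_ ?_ ?_ l.length ⊥ l l' rfl hl hl').1
  · exact fun U l => ⟨1, one_ne_zero, fun x hx hs P _ W _ T => by
      rw [sub_self, Ord.ordAt_one hδ x ξ hs (by omega)]⟩
  · rintro U l l' l'' ⟨f, hf, h⟩ ⟨g, hg, h'⟩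
    refine ⟨f * g, mul_ne_zero hf hg, fun x hx hs P hP W hW T => ?_⟩
    rw [Ord.ordAt_mul hδ x ξ hs (by omega) f g hf hg, ← h x hx hs P hP W hW T,
      ← h' x hx hs P hP W hW T]
    ring
  · rintro U v l l' - ⟨f, hf, h⟩
    refine ⟨f, hf, fun x hx hs P hP W hW T => ?_⟩
    rw [List.map_cons, List.map_cons, List.cons_append, List.cons_append, Flag.val, Flag.val,
      add_sub_add_left_eq_sub]
    refine h x hx hs P hP _ ?_ T
    rw [Flag.upd_same W (⟨⟨ξ, hξ, hs⟩, v⟩ : Σ η, V M δ k x η), hW]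
  · intro U v v' c l hv hv' hc hcv
    have hne : X.residue ξ c ≠ 0 := (hc.map (X.residue ξ).hom).ne_zero
    refine ⟨(X.residue ξ c)⁻¹, inv_ne_zero hne, fun x hx hs P hP W hW T => ?_⟩
    rw [List.map_cons, List.map_cons, List.cons_append, List.cons_append]
    exact val_scale_ord hδ hx (⟨ξ, hξ, hs⟩ : Big δ k x) hP W (by rw [hW]; exact hv)
      (by rw [hW]; exact hv') hc (by rw [hW]; exact hcv) _
  · intro U a b l ha hb hab hba
    refine ⟨1, one_ne_zero, fun x hx hs P hP W hW T => ?_⟩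
    let i : Big δ k x := ⟨ξ, hξ, hs⟩
    have e : ∀ v, Flag.upd W (⟨i, v⟩ : Σ η, V M δ k x η) i = U ⊔ Submodule.span _ {v} := fun v => by
      rw [Flag.upd_same W (⟨i, v⟩ : Σ η, V M δ k x η), hW]
    rw [Ord.ordAt_one hδ x ξ hs (by omega), sub_eq_zero]
    simp only [List.map_cons, List.cons_append]
    exact Flag.val_swap (geom hδ hx) hP (by rw [Flag.OK, hW]; exact ha)
      (by rw [Flag.OK, hW]; exact hb) (by rw [Flag.OK, e]; exact hab)
      (by rw [Flag.OK, e]; exact hba) _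

omit [IsLocallyNoetherian X] in
theorem foldl_upd_ne {x : X} (ξ η : Big δ k x) (h : η ≠ ξ) (l : List (V M δ k x ξ))
    (W : ∀ η : Big δ k x, Submodule (S δ k x η) (V M δ k x η)) :
    (l.map (Sigma.mk ξ) : List (Σ η, V M δ k x η)).foldl Flag.upd W η = W η := by
  induction l generalizing W with
  | nil => rfl
  | cons a l ih => rw [List.map_cons, List.foldl_cons, ih, Flag.upd_ne W (⟨ξ, a⟩ : Σ η, V M δ k x η) h]

theorem val_blocks {F G : Fr M} {f : (ξ : X) → X.residueField ξ}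
    (hE : ∀ (ξ : X) (hξ : δ ξ = k + 1), ∀ (x : X) (_ : δ x = k) (hs : ξ ⤳ x)
      (P : Submodule (X.presheaf.stalk x) (∀ η : Big δ k x, V M δ k x η)) (_ : Flag.Gen (S := S δ k x) P)
      (W : ∀ η : Big δ k x, Submodule (S δ k x η) (V M δ k x η)) (_ : W ⟨ξ, hξ, hs⟩ = ⊥)
      (T : List (Σ η, V M δ k x η)),
      Flag.val P W ((F ξ).map (Sigma.mk (⟨ξ, hξ, hs⟩ : Big δ k x)) ++ T) -
        Flag.val P W ((G ξ).map (Sigma.mk (⟨ξ, hξ, hs⟩ : Big δ k x)) ++ T) = Cyc.ordAt x ξ hs (f ξ))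
    {x : X} (hx : δ x = k) {P : Submodule (X.presheaf.stalk x) (∀ η : Big δ k x, V M δ k x η)}
    (hP : Flag.Gen (S := S δ k x) P) (l : List (Big δ k x)) (hl : l.Nodup)
    (W : ∀ η : Big δ k x, Submodule (S δ k x η) (V M δ k x η)) (hW : ∀ ξ ∈ l, W ξ = ⊥) :
    Flag.val P W (blocks F l) - Flag.val P W (blocks G l) =
      (l.map fun ξ => Cyc.ordAt x ξ.1 ξ.2.2 (f ξ.1)).sum := by
  induction l generalizing W with
  | nil => simp [blocks]
  | cons ξ l ih =>
    rw [List.nodup_cons] at hl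
    have e1 := hE ξ.1 ξ.2.1 x hx ξ.2.2 P hP W (hW ξ List.mem_cons_self) (blocks F l)
    have e2 := ih hl.2 (((G ξ.1).map (Sigma.mk ξ)).foldl Flag.upd W) fun η hη => by
      rw [foldl_upd_ne ξ η (fun h => hl.1 (h ▸ hη))]
      exact hW η (List.mem_cons_of_mem _ hη)
    rw [List.map_cons, List.sum_cons, ← e1, ← e2]
    simp only [blocks, List.flatMap_cons, Flag.val_append P ((G ξ.1).map (Sigma.mk ξ))]
    ring

/-- Two frames differ by principal divisors. -/
theorem exists_dx_sub {F G : Fr M} (hF : Valid δ k F) (hG : Valid δ k G) :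
    ∃ f : (ξ : X) → X.residueField ξ, (∀ ξ, f ξ ≠ 0) ∧ ∀ x, δ x = k →
      dx hδ hM F x - dx hδ hM G x =
        ((suppList hδ hM x).map fun ξ => Cyc.ordAt x ξ.1 ξ.2.2 (f ξ.1)).sum := by
  have : ∀ ξ : X, ∃ f : X.residueField ξ, f ≠ 0 ∧ ∀ hξ : δ ξ = k + 1,
      ∀ (x : X) (_ : δ x = k) (hs : ξ ⤳ x)
      (P : Submodule (X.presheaf.stalk x) (∀ η : Big δ k x, V M δ k x η)) (_ : Flag.Gen (S := S δ k x) P)
      (W : ∀ η : Big δ k x, Submodule (S δ k x η) (V M δ k x η)) (_ : W ⟨ξ, hξ, hs⟩ = ⊥)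
      (T : List (Σ η, V M δ k x η)),
      Flag.val P W ((F ξ).map (Sigma.mk (⟨ξ, hξ, hs⟩ : Big δ k x)) ++ T) -
        Flag.val P W ((G ξ).map (Sigma.mk (⟨ξ, hξ, hs⟩ : Big δ k x)) ++ T) = Cyc.ordAt x ξ hs f := fun ξ => by
    by_cases hξ : δ ξ = k + 1
    · obtain ⟨f, hf, h⟩ := exists_change hδ hM ξ hξ (hF ξ hξ) (hG ξ hξ)
      exact ⟨f, hf, fun _ => h⟩
    · exact ⟨1, one_ne_zero, fun h => absurd h hξ⟩
  choose f hf hE using this
  refine ⟨f, hf, fun x hx => ?_⟩
  rw [dx, dx, if_pos hx, if_pos hx, Flag.D, Flag.D, add_sub_add_left_eq_sub]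
  exact val_blocks hE hx (dat hδ hM hx).gen _ (nodup_suppList hδ hM x) _ fun _ _ => rfl

end

end Groth.Agent.Lib.Cyc.Retr.Frames
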