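import Groth.Agent.Lib.CycAlg.Per
import Mathlib.RingTheory.Length
import Mathlib.LinearAlgebra.Isomorphisms

/-!
# The index of commensurable submodules
-/

universe u v w

namespace Groth.Agent.Lib.Cyc.Retr.Idx

open LinearMap Submodule Groth.Agent.Lib.CycAlg.Per

variable {R : Type u} [CommRing R] {V : Type v} [AddCommGroup V] [Module R V]

/-- The length of `A / (A ⊓ B)`. -/
noncomputable def qlen (A B : Submodule R V) : ℕ∞ :=
  Module.length R (↥A ⧸ B.comap A.subtype)

/-- Commensurable submodules. -/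
def Comm (A B : Submodule R V) : Prop := qlen A B < ⊤ ∧ qlen B A < ⊤

/-- The index of two commensurable submodules. -/
noncomputable def idx (A B : Submodule R V) : ℤ :=
  ((qlen A B).toNat : ℤ) - ((qlen B A).toNat : ℤ)

theorem qlen_of_le {A B : Submodule R V} (h : A ≤ B) : qlen A B = 0 := by
  have : Subsingleton (↥A ⧸ B.comap A.subtype) :=
    Submodule.Quotient.subsingleton_iff.2 (eq_top_iff.2 fun a _ => h a.2)
  exact Module.length_eq_zero

theorem qlen_inf (A B : Submodule R V) : qlen A (A ⊓ B) = qlen A B := by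
  unfold qlen
  rw [show (A ⊓ B).comap A.subtype = B.comap A.subtype by ext a; simp]

/-- `A ≥ B ≥ C`: lengths of quotients add. -/
theorem qlen_chain {A B C : Submodule R V} (hBA : B ≤ A) (hCB : C ≤ B) :
    qlen A C = qlen B C + qlen A B := by
  refine Module.length_eq_add_of_exact
    (Submodule.mapQ (C.comap B.subtype) (C.comap A.subtype) (Submodule.inclusion hBA) fun b hb => hb)
    (Submodule.mapQ (C.comap A.subtype) (B.comap A.subtype) LinearMap.id fun a ha => hCB ha)
    ?_ ?_ ?_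
  · rw [injective_iff_map_eq_zero]
    intro x hx
    obtain ⟨b, rfl⟩ := Submodule.Quotient.mk_surjective _ x
    rw [Submodule.mapQ_apply, Submodule.Quotient.mk_eq_zero] at hx
    exact (Submodule.Quotient.mk_eq_zero _).2 hx
  · intro x
    obtain ⟨a, rfl⟩ := Submodule.Quotient.mk_surjective _ x
    exact ⟨Submodule.Quotient.mk a, rfl⟩
  · intro x
    obtain ⟨a, rfl⟩ := Submodule.Quotient.mk_surjective _ x
    constructor
    · intro hx
      rw [Submodule.mapQ_apply, Submodule.Quotient.mk_eq_zero] at hx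
      exact ⟨Submodule.Quotient.mk ⟨a.1, hx⟩, rfl⟩
    · rintro ⟨y, hy⟩
      obtain ⟨b, rfl⟩ := Submodule.Quotient.mk_surjective _ y
      rw [Submodule.mapQ_apply] at hy
      rw [← hy, Submodule.mapQ_apply, Submodule.Quotient.mk_eq_zero]
      exact b.2

theorem qlen_inf_le (A B C : Submodule R V) : qlen (A ⊓ C) (B ⊓ C) ≤ qlen A B :=
  Module.length_le_of_injective
    (Submodule.mapQ ((B ⊓ C).comap (A ⊓ C).subtype) (B.comap A.subtype)
      (Submodule.inclusion inf_le_left) fun x hx => hx.1) (by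
    rw [injective_iff_map_eq_zero]
    intro x hx
    obtain ⟨b, rfl⟩ := Submodule.Quotient.mk_surjective _ x
    rw [Submodule.mapQ_apply, Submodule.Quotient.mk_eq_zero] at hx
    exact (Submodule.Quotient.mk_eq_zero _).2 ⟨hx, b.2.2⟩)

theorem Comm.refl (A : Submodule R V) : Comm A A := by
  constructor <;> (rw [qlen_of_le le_rfl]; exact ENat.top_pos)

theorem idx_self (A : Submodule R V) : idx A A = 0 := sub_self _

theorem Comm.symm {A B : Submodule R V} (h : Comm A B) : Comm B A := ⟨h.2, h.1⟩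

theorem idx_symm (A B : Submodule R V) : idx B A = -idx A B := (neg_sub _ _).symm

theorem qlen_inf_inf_lt {A B C : Submodule R V} (hAB : Comm A B) (hBC : Comm B C) :
    qlen A (A ⊓ B ⊓ C) < ⊤ := by
  rw [qlen_chain inf_le_left (show A ⊓ B ⊓ C ≤ A ⊓ B from inf_le_left), ENat.add_lt_top]
  refine ⟨?_, (qlen_inf A B).symm ▸ hAB.1⟩
  rw [qlen_inf]
  calc qlen (A ⊓ B) C = qlen (A ⊓ B) (C ⊓ (A ⊓ B)) := by rw [inf_comm C, qlen_inf]
    _ = qlen (B ⊓ (A ⊓ B)) (C ⊓ (A ⊓ B)) := by
      congr 1; exact (inf_eq_right.2 inf_le_right).symm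
    _ ≤ qlen B C := qlen_inf_le _ _ _
    _ < ⊤ := hBC.1

theorem qlen_lt_of_comm {A B C : Submodule R V} (hAB : Comm A B) (hBC : Comm B C) :
    qlen A C < ⊤ := by
  have h := qlen_inf_inf_lt hAB hBC
  rw [qlen_chain (inf_le_left : A ⊓ C ≤ A)
    (le_inf (inf_le_left.trans inf_le_left) inf_le_right), ENat.add_lt_top, qlen_inf] at h
  exact h.2

theorem Comm.trans {A B C : Submodule R V} (hAB : Comm A B) (hBC : Comm B C) : Comm A C :=
  ⟨qlen_lt_of_comm hAB hBC, qlen_lt_of_comm hBC.symm hAB.symm⟩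

theorem idx_eq_sub {A B D : Submodule R V} (hA : D ≤ A) (hB : D ≤ B) (fA : qlen A D < ⊤)
    (fB : qlen B D < ⊤) :
    idx A B = ((qlen A D).toNat : ℤ) - ((qlen B D).toNat : ℤ) := by
  have hD : D ≤ A ⊓ B := le_inf hA hB
  have e1 := qlen_chain (inf_le_left : A ⊓ B ≤ A) hD
  have e2 := qlen_chain (inf_le_right : A ⊓ B ≤ B) hD
  rw [qlen_inf] at e1
  rw [inf_comm A B, qlen_inf, inf_comm B A] at e2
  rw [e1, ENat.add_lt_top] at fA
  rw [e2, ENat.add_lt_top] at fB
  rw [e1, e2, toNat_add fA.1 fA.2, toNat_add fB.1 fB.2, idx]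
  push_cast
  ring

theorem idx_trans {A B C : Submodule R V} (hAB : Comm A B) (hBC : Comm B C) :
    idx A B + idx B C = idx A C := by
  let D := A ⊓ B ⊓ C
  have fA : qlen A D < ⊤ := qlen_inf_inf_lt hAB hBC
  have fC : qlen C D < ⊤ := by
    rw [show D = C ⊓ B ⊓ A by simp only [D]; ac_rfl]
    exact qlen_inf_inf_lt hBC.symm hAB.symm
  have fB : qlen B D < ⊤ := by
    rw [show D = B ⊓ A ⊓ C by simp only [D]; ac_rfl]
    exact qlen_inf_inf_lt hAB.symm (hAB.trans hBC)
  rw [idx_eq_sub (inf_le_left.trans inf_le_left) (inf_le_left.trans inf_le_right) fA fB,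
    idx_eq_sub (inf_le_left.trans inf_le_right) inf_le_right fB fC,
    idx_eq_sub (inf_le_left.trans inf_le_left) inf_le_right fA fC]
  ring

theorem idx_of_le {A B : Submodule R V} (h : B ≤ A) : idx A B = (qlen A B).toNat := by
  simp [idx, qlen_of_le h]

theorem comm_of_le {A B : Submodule R V} (h : B ≤ A) (hf : qlen A B < ⊤) : Comm A B :=
  ⟨hf, by rw [qlen_of_le h]; exact ENat.top_pos⟩

theorem qlen_bot (A : Submodule R V) : qlen A ⊥ = Module.length R A :=
  (Submodule.quotEquivOfEqBot _ (by ext a; simp)).length_eq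

theorem idx_bot (A : Submodule R V) : idx A ⊥ = ((Module.length R A).toNat : ℤ) := by
  rw [idx_of_le bot_le, qlen_bot]

variable {V' : Type w} [AddCommGroup V'] [Module R V']

/-- additivity along a linear map -/
theorem qlen_map_add {A B : Submodule R V} (hBA : B ≤ A) (f : V →ₗ[R] V') :
    qlen A B = qlen (A ⊓ ker f) (B ⊓ ker f) + qlen (A.map f) (B.map f) := by
  refine Module.length_eq_add_of_exact
    (Submodule.mapQ _ (B.comap A.subtype) (Submodule.inclusion inf_le_left) fun x hx => hx.1)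
    (Submodule.mapQ (B.comap A.subtype) ((B.map f).comap (A.map f).subtype)
      (f.submoduleMap A) fun a ha => ⟨a.1, ha, rfl⟩) ?_ ?_ ?_
  · rw [injective_iff_map_eq_zero]
    intro x hx
    obtain ⟨b, rfl⟩ := Submodule.Quotient.mk_surjective _ x
    rw [Submodule.mapQ_apply, Submodule.Quotient.mk_eq_zero] at hx
    exact (Submodule.Quotient.mk_eq_zero _).2 ⟨hx, b.2.2⟩
  · intro x
    obtain ⟨⟨_, a, ha, rfl⟩, rfl⟩ := Submodule.Quotient.mk_surjective _ x
    exact ⟨Submodule.Quotient.mk ⟨a, ha⟩, rfl⟩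
  · intro x
    obtain ⟨a, rfl⟩ := Submodule.Quotient.mk_surjective _ x
    constructor
    · intro hx
      rw [Submodule.mapQ_apply, Submodule.Quotient.mk_eq_zero] at hx
      obtain ⟨b, hb, hfb⟩ := hx
      refine ⟨Submodule.Quotient.mk ⟨a.1 - b, A.sub_mem a.2 (hBA hb), ?_⟩, ?_⟩
      · rw [SetLike.mem_coe, LinearMap.mem_ker, map_sub, hfb]
        exact sub_self _
      · rw [Submodule.mapQ_apply, Submodule.Quotient.eq]
        show a.1 - b - a.1 ∈ B
        simpa using hb
    · rintro ⟨y, hy⟩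
      obtain ⟨b, rfl⟩ := Submodule.Quotient.mk_surjective _ y
      rw [Submodule.mapQ_apply] at hy
      rw [← hy, Submodule.mapQ_apply, Submodule.Quotient.mk_eq_zero]
      refine ⟨0, B.zero_mem, ?_⟩
      rw [map_zero]
      exact b.2.2.symm

theorem Comm.map {A B : Submodule R V} (h : Comm A B) (f : V →ₗ[R] V') :
    Comm (A.map f) (B.map f) := by
  have key : ∀ {A B : Submodule R V}, qlen A B < ⊤ →
      Comm (A.map f) ((A ⊓ B).map f) := fun {A B} h => by
    refine comm_of_le (Submodule.map_mono inf_le_left) (lt_of_le_of_lt ?_ h)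
    rw [← qlen_inf A B, qlen_map_add inf_le_left f]
    exact le_add_self
  exact (key h.1).trans (inf_comm A B ▸ (key h.2).symm)

theorem Comm.inf {A B : Submodule R V} (h : Comm A B) (C : Submodule R V) :
    Comm (A ⊓ C) (B ⊓ C) :=
  ⟨(qlen_inf_le A B C).trans_lt h.1, (qlen_inf_le B A C).trans_lt h.2⟩

theorem idx_map_add {A B : Submodule R V} (h : Comm A B) (f : V →ₗ[R] V') :
    idx A B = idx (A ⊓ ker f) (B ⊓ ker f) + idx (A.map f) (B.map f) := by
  have key : ∀ {A B : Submodule R V}, B ≤ A → qlen A B < ⊤ →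
      idx A B = idx (A ⊓ ker f) (B ⊓ ker f) + idx (A.map f) (B.map f) := fun {A B} hBA hf => by
    rw [idx_of_le hBA, idx_of_le (inf_le_inf_right _ hBA), idx_of_le (Submodule.map_mono hBA)]
    rw [qlen_map_add hBA f] at hf ⊢
    rw [ENat.add_lt_top] at hf
    rw [toNat_add hf.1 hf.2]
    push_cast
    ring
  have h1 : Comm A (A ⊓ B) := comm_of_le inf_le_left ((qlen_inf A B).trans_lt h.1)
  have h2 : Comm B (A ⊓ B) := comm_of_le inf_le_right (by rw [inf_comm, qlen_inf]; exact h.2)
  rw [← idx_trans h1 h2.symm, ← idx_trans (h1.inf (ker f)) (h2.inf (ker f)).symm,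
    ← idx_trans (h1.map f) (h2.map f).symm, idx_symm B, idx_symm (B ⊓ ker f), idx_symm (B.map f),
    key inf_le_left h1.1, key inf_le_right h2.1]
  ring

theorem idx_map_of_injective {A B : Submodule R V} (f : V →ₗ[R] V') (hf : Function.Injective f) :
    idx (A.map f) (B.map f) = idx A B := by
  have key : ∀ A B : Submodule R V, qlen (A.map f) (B.map f) = qlen A B := fun A B => by
    rw [← qlen_inf A B, ← qlen_inf (A.map f), ← Submodule.map_inf f hf,
      qlen_map_add inf_le_left f, LinearMap.ker_eq_bot.2 hf, inf_bot_eq, inf_bot_eq,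
      qlen_of_le le_rfl, zero_add]
  rw [idx, idx, key, key]

theorem qlen_comap {A B : Submodule R V'} (f : V →ₗ[R] V') (hA : A ≤ range f) :
    qlen (A.comap f) (B.comap f) = qlen A B := by
  rw [← qlen_inf (A.comap f), ← Submodule.comap_inf, qlen_map_add (Submodule.comap_mono inf_le_left) f,
    qlen_of_le (A := A.comap f ⊓ ker f), zero_add, Submodule.map_comap_eq, Submodule.map_comap_eq,
    inf_eq_right.2 hA, inf_eq_right.2 (inf_le_left.trans hA), qlen_inf]
  intro x hx
  exact ⟨by rw [SetLike.mem_coe, Submodule.mem_comap, LinearMap.mem_ker.1 hx.2]; exact zero_mem _, hx.2⟩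

theorem idx_comap {A B : Submodule R V'} (f : V →ₗ[R] V') (hA : A ≤ range f) (hB : B ≤ range f) :
    idx (A.comap f) (B.comap f) = idx A B := by
  rw [idx, idx, qlen_comap f hA, qlen_comap f hB]

theorem comm_comap {A B : Submodule R V'} (f : V →ₗ[R] V') (hA : A ≤ range f) (hB : B ≤ range f)
    (h : Comm A B) : Comm (A.comap f) (B.comap f) := by
  rw [Comm, qlen_comap f hA, qlen_comap f hB]; exact h

theorem comm_sup {A B : Submodule R V} (h : Comm A B) (W : Submodule R V) :
    Comm (A ⊔ W) (B ⊔ W) := by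
  have := comm_comap W.mkQ (by simp) (by simp) (h.map W.mkQ)
  rwa [Submodule.comap_map_mkQ, Submodule.comap_map_mkQ, sup_comm W, sup_comm W] at this

/-- The modular splitting. -/
theorem idx_split {A B : Submodule R V} (h : Comm A B) (W : Submodule R V) :
    idx A B = idx (A ⊓ W) (B ⊓ W) + idx (A ⊔ W) (B ⊔ W) := by
  rw [idx_map_add h W.mkQ, Submodule.ker_mkQ]
  congr 1
  rw [← idx_comap W.mkQ (by simp) (by simp), Submodule.comap_map_mkQ, Submodule.comap_map_mkQ,
    sup_comm W, sup_comm W]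

end Groth.Agent.Lib.Cyc.Retr.Idx
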