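import Groth.Agent.Lib.Cyc.Retr.Frames
import Mathlib.RingTheory.Ideal.AssociatedPrime.Basic

/-!
# Frames from a prime filtration of the sections on an affine open
-/

set_option autoImplicit false
set_option linter.style.haveILetI false
set_option linter.unusedSectionVars false
universe u

open CategoryTheory AlgebraicGeometry IsLocalRing

namespace Groth.Agent.Lib.Cyc.Retr.LocFin

open Groth.Agent.Lib Groth.Agent.Lib.Cyc Groth.Agent.Lib.Cyc.Retr Groth.Agent.Lib.Cyc.Retr.Point
  Groth.Agent.Lib.Cyc.Retr.Frames Groth.Agent.Lib.Modules.StalkModule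

section Generic

variable {R : Type u} [CommRing R] {ι : Type u} {S : ι → Type u} [∀ i, CommRing (S i)]
  [∀ i, IsLocalRing (S i)] [∀ i, Algebra R (S i)]
  {V : ι → Type u} [∀ i, AddCommGroup (V i)] [∀ i, Module R (V i)] [∀ i, Module (S i) (V i)]
  [∀ i, IsScalarTower R (S i) (V i)] [DecidableEq ι]
  {N : Type u} [AddCommGroup N] [Module R N]

/-- A filtration of `N` lifting a frame. -/
def Filt (φ : N →ₗ[R] ∀ i, V i) :
    Submodule R N → (∀ i, Submodule (S i) (V i)) → List (ι × N) → Prop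
  | P, _, [] => P = ⊤
  | P, U, a :: L =>
    φ a.2 a.1 ∉ U a.1 ∧ (∀ r ∈ Flag.q R S a.1, r • a.2 ∈ P) ∧ (∀ j, j ≠ a.1 → φ a.2 j ∈ U j) ∧
      Filt φ (P ⊔ Submodule.span R {a.2}) (Flag.upd U ⟨a.1, φ a.2 a.1⟩) L

/-- A filtration frame has zero value and exhausts. -/
theorem filt_val (φ : N →ₗ[R] ∀ i, V i) (L : List (ι × N)) (P : Submodule R N)
    (U : ∀ i, Submodule (S i) (V i)) (hP : P.map φ ≤ Flag.piU R U) (h : Filt φ P U L) :
    Flag.val (LinearMap.range φ) U (L.map fun a => (⟨a.1, φ a.2 a.1⟩ : Σ i, V i)) = 0 ∧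
      (Flag.piU R U).comap φ = P := by
  induction L generalizing P U with
  | nil =>
    have h : P = ⊤ := h
    subst h
    exact ⟨rfl, eq_top_iff.2 fun n _ => hP ⟨n, trivial, rfl⟩⟩
  | cons a L ih =>
    obtain ⟨h1, h2, h3, h4⟩ := h
    let b : Σ i, V i := ⟨a.1, φ a.2 a.1⟩
    have hd : φ a.2 - Flag.single b ∈ Flag.piU R U := Flag.mem_piU.2 fun j => by
      by_cases hj : j = a.1
      · subst hj; simp [Flag.single, b]
      · simpa [Flag.single, b, Pi.single_eq_of_ne hj] using h3 j hj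
    have hT : φ a.2 ∈ Flag.piU R (Flag.upd U b) := by
      rw [← sub_add_cancel (φ a.2) (Flag.single b)]
      exact add_mem (Flag.piU_mono (Flag.le_upd U b) hd) (Flag.single_mem_upd U b)
    have hP' : (P ⊔ Submodule.span R {a.2}).map φ ≤ Flag.piU R (Flag.upd U b) := by
      rw [Submodule.map_sup, Submodule.map_span, Set.image_singleton]
      exact sup_le (hP.trans (Flag.piU_mono (Flag.le_upd U b)))
        ((Submodule.span_singleton_le_iff_mem _ _).2 hT)
    obtain ⟨e1, e2⟩ := ih _ _ hP' h4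
    have hcomap : (Flag.piU R U).comap φ = P := by
      refine le_antisymm (fun n hn => ?_) fun n hn => hP ⟨n, hn, rfl⟩
      have hn' : n ∈ P ⊔ Submodule.span R {a.2} := e2 ▸ Flag.piU_mono (Flag.le_upd U b) hn
      obtain ⟨p, hp, y, hy, rfl⟩ := Submodule.mem_sup.1 hn'
      obtain ⟨r, rfl⟩ := Submodule.mem_span_singleton.1 hy
      refine add_mem hp (h2 r ?_)
      by_contra hne
      rw [Flag.q, Ideal.mem_comap, mem_maximalIdeal, mem_nonunits_iff, not_not] at hne
      rw [Submodule.mem_comap, map_add, map_smul] at hn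
      have := Flag.mem_piU.1 ((Submodule.add_mem_iff_right _ (hP ⟨p, hp, rfl⟩)).1 hn) a.1
      rw [Pi.smul_apply, ← algebraMap_smul (S a.1)] at this
      exact h1 ((Submodule.smul_mem_iff_of_isUnit _ hne).1 this)
    refine ⟨?_, hcomap⟩
    rw [List.map_cons, Flag.val, e1, add_zero]
    have : Flag.lat (LinearMap.range φ) U b = Flag.ref R U b := by
      rw [Flag.lat, Flag.ref]
      refine le_antisymm (sup_le ?_ le_sup_right) (sup_le ?_ le_sup_right)
      · rintro _ ⟨⟨n, rfl⟩, hn⟩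
        have hn' : n ∈ P ⊔ Submodule.span R {a.2} := e2 ▸ hn
        obtain ⟨p, hp, y, hy, rfl⟩ := Submodule.mem_sup.1 hn'
        obtain ⟨r, rfl⟩ := Submodule.mem_span_singleton.1 hy
        rw [map_add, map_smul, ← sub_add_cancel (φ a.2) (Flag.single b), smul_add, ← add_assoc]
        exact add_mem (Submodule.mem_sup_right (add_mem (hP ⟨p, hp, rfl⟩) (Submodule.smul_mem _ _ hd)))
          (Submodule.mem_sup_left (Submodule.smul_mem _ _ (Submodule.mem_span_singleton_self _)))
      · rw [Submodule.span_singleton_le_iff_mem, ← sub_sub_cancel (φ a.2) (Flag.single b)]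
        exact sub_mem (Submodule.mem_sup_left ⟨⟨_, rfl⟩, hT⟩) (Submodule.mem_sup_right hd)
    rw [this, Idx.idx_self]

theorem filt_D [IsLocalRing R] [IsNoetherianRing R] (φ : N →ₗ[R] ∀ i, V i) (L : List (ι × N))
    (h : Filt φ ⊥ (fun i => (⊥ : Submodule (S i) (V i))) L) :
    Flag.D S φ (L.map fun a => (⟨a.1, φ a.2 a.1⟩ : Σ i, V i)) = 0 := by
  obtain ⟨e1, e2⟩ := filt_val φ L ⊥ _ (by rw [Submodule.map_bot]; exact bot_le) h
  rw [Flag.D, e1, ← Submodule.comap_bot φ, ← Flag.piU_bot (R := R) (S := S), e2, Module.length_bot]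
  rfl

end Generic

variable {X : Scheme.{u}} {δ : X → ℤ} {k : ℤ}

noncomputable section

/-- The prime of a point of an affine open. -/
def pr {U : X.Opens} {z : X} (hz : z ∈ U) : Ideal Γ(X, U) :=
  (maximalIdeal (X.presheaf.stalk z)).comap (X.presheaf.germ U z hz).hom

theorem not_mem_pr {U : X.Opens} {z : X} (hz : z ∈ U) (a : Γ(X, U)) :
    a ∉ pr hz ↔ z ∈ X.basicOpen a := by
  rw [pr, Ideal.mem_comap, mem_maximalIdeal, mem_nonunits_iff, not_not, X.mem_basicOpen a z hz]

theorem pr_le_iff {U : X.Opens} (hU : IsAffineOpen U) {y z : X} (hy : y ∈ U) (hz : z ∈ U) :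
    pr hy ≤ pr hz ↔ y ⤳ z := by
  constructor
  · intro hle
    rw [specializes_iff_forall_open]
    intro W hW hzW
    obtain ⟨a, haW, hza⟩ := hU.exists_basicOpen_le (V := ⟨W, hW⟩) ⟨z, hzW⟩ hz
    exact haW ((not_mem_pr hy a).1 fun h => (not_mem_pr hz a).2 hza (hle h))
  · intro h a ha
    by_contra hne
    exact (not_mem_pr hy a).2 (h.mem_open (X.basicOpen a).2 ((not_mem_pr hz a).1 hne)) ha

theorem pr_eq {U : X.Opens} (hU : IsAffineOpen U) {z : X} (hz : z ∈ U) :
    pr hz = (hU.primeIdealOf ⟨z, hz⟩).asIdeal := by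
  rw [hU.primeIdealOf_eq_map_closedPoint]
  rfl

theorem exists_pr {U : X.Opens} (hU : IsAffineOpen U) (p : Ideal Γ(X, U)) (hp : p.IsPrime) :
    ∃ y : U, pr y.2 = p := by
  have hy : hU.fromSpec ⟨p, hp⟩ ∈ U := by
    have : hU.fromSpec ⟨p, hp⟩ ∈ Set.range hU.fromSpec := ⟨_, rfl⟩
    rwa [hU.range_fromSpec] at this
  refine ⟨⟨_, hy⟩, ?_⟩
  rw [pr_eq hU hy]
  exact congrArg PrimeSpectrum.asIdeal
    (hU.fromSpec.isEmbedding.injective (hU.fromSpec_primeIdealOf ⟨_, hy⟩) :
      hU.primeIdealOf ⟨_, hy⟩ = ⟨p, hp⟩)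

variable (M : X.Modules) {U : X.Opens}

/-- A prime filtration of the sections, with the points of the primes. -/
def PF : Submodule Γ(X, U) Γ(M, U) → List (U × Γ(M, U)) → Prop
  | P, [] => P = ⊤
  | P, a :: L =>
    (∀ c : Γ(X, U), c ∈ pr a.1.2 ↔ c • a.2 ∈ P) ∧ PF (P ⊔ Submodule.span Γ(X, U) {a.2}) L

theorem exists_pf [IsLocallyNoetherian X] (hU : IsAffineOpen U) [Module.Finite Γ(X, U) Γ(M, U)]
    (P : Submodule Γ(X, U) Γ(M, U)) : ∃ L, PF M P L := by
  haveI : IsNoetherianRing Γ(X, U) := IsLocallyNoetherian.component_noetherian ⟨U, hU⟩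
  haveI : IsNoetherian Γ(X, U) Γ(M, U) := inferInstance
  induction P using (IsWellFounded.wf
    (r := fun A B : Submodule Γ(X, U) Γ(M, U) => B < A)).induction with
  | _ P ih =>
    by_cases h : P = ⊤
    · exact ⟨[], h⟩
    · haveI : Nontrivial (Γ(M, U) ⧸ P) := Submodule.Quotient.nontrivial_iff.2 h
      obtain ⟨p, hp⟩ := associatedPrimes.nonempty Γ(X, U) (Γ(M, U) ⧸ P)
      obtain ⟨hpp, x, hx⟩ := isAssociatedPrime_iff.1 hp
      obtain ⟨w, rfl⟩ := Submodule.Quotient.mk_surjective _ x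
      obtain ⟨y, hy⟩ := exists_pr hU p hpp
      have hc : ∀ c : Γ(X, U), c ∈ pr y.2 ↔ c • w ∈ P := fun c => by
        rw [hy, hx, Submodule.mem_colon_singleton, Submodule.mem_bot, ← Submodule.Quotient.mk_smul,
          Submodule.Quotient.mk_eq_zero]
      have hlt : P < P ⊔ Submodule.span Γ(X, U) {w} := lt_of_le_of_ne le_sup_left fun e => by
        have hwP : w ∈ P := e ▸ Submodule.mem_sup_right (Submodule.mem_span_singleton_self w)
        have h1 := (hc 1).2 (by rwa [one_smul])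
        rw [hy] at h1
        exact hpp.ne_top ((Ideal.eq_top_iff_one _).2 h1)
      obtain ⟨L, hL⟩ := ih _ hlt
      exact ⟨(y, w) :: L, hc, hL⟩

/-- The image of a submodule of sections in a stalk. -/
def img {z : X} (hz : z ∈ U) (P : Submodule Γ(X, U) Γ(M, U)) :
    Submodule (X.presheaf.stalk z) (M.presheaf.stalk z) :=
  Submodule.span _ (M.presheaf.germ U z hz '' P)

theorem img_sup {z : X} (hz : z ∈ U) (P : Submodule Γ(X, U) Γ(M, U)) (w : Γ(M, U)) :
    img M hz (P ⊔ Submodule.span _ {w}) =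
      img M hz P ⊔ Submodule.span (X.presheaf.stalk z) {M.presheaf.germ U z hz w} := by
  refine le_antisymm (Submodule.span_le.2 ?_) (sup_le (Submodule.span_mono
    (Set.image_mono fun _ => Submodule.mem_sup_left)) ((Submodule.span_singleton_le_iff_mem _ _).2
      (Submodule.subset_span ⟨w, Submodule.mem_sup_right (Submodule.mem_span_singleton_self _), rfl⟩)))
  rintro _ ⟨v, hv, rfl⟩
  obtain ⟨p, hp, y, hy, rfl⟩ := Submodule.mem_sup.1 hv
  obtain ⟨c, rfl⟩ := Submodule.mem_span_singleton.1 hy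
  rw [SetLike.mem_coe, map_add, germ_smul]
  exact add_mem (Submodule.mem_sup_left (Submodule.subset_span ⟨p, hp, rfl⟩))
    (Submodule.mem_sup_right (Submodule.smul_mem _ _ (Submodule.mem_span_singleton_self _)))

theorem img_bot {z : X} (hz : z ∈ U) : img M hz ⊥ = ⊥ := by
  simp [img]

theorem exists_frac (hU : IsAffineOpen U) {z : X} (hz : z ∈ U) (r : X.presheaf.stalk z) :
    ∃ a s : Γ(X, U), s ∉ pr hz ∧ X.presheaf.germ U z hz s * r = X.presheaf.germ U z hz a := by
  letI := (X.presheaf.germ U z hz).hom.toAlgebra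
  haveI := hU.isLocalization_stalk ⟨z, hz⟩
  obtain ⟨⟨a, s⟩, h⟩ := IsLocalization.surj (hU.primeIdealOf ⟨z, hz⟩).asIdeal.primeCompl r
  exact ⟨a, s, by rw [pr_eq hU hz]; exact s.2, (mul_comm _ _).trans h⟩

variable [M.IsQuasicoherent]

theorem img_top (hU : IsAffineOpen U) {z : X} (hz : z ∈ U) : img M hz ⊤ = ⊤ := by
  refine eq_top_iff.2 fun v _ => ?_
  obtain ⟨f, t, hf, hft⟩ := StalkLoc.Basic.exists_smul_eq_germ hU hz v
  rw [← Submodule.smul_mem_iff_of_isUnit _ ((X.mem_basicOpen f z hz).1 hf), hft]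
  exact Submodule.subset_span ⟨t, trivial, rfl⟩

theorem germ_mem_img_iff (hU : IsAffineOpen U) {z : X} (hz : z ∈ U)
    (P : Submodule Γ(X, U) Γ(M, U)) (w : Γ(M, U)) :
    M.presheaf.germ U z hz w ∈ img M hz P ↔ ∃ c, c ∉ pr hz ∧ c • w ∈ P := by
  constructor
  · intro h
    have key : ∀ v ∈ img M hz P, ∃ c p, c ∉ pr hz ∧ p ∈ P ∧
        X.presheaf.germ U z hz c • v = M.presheaf.germ U z hz p := by
      intro v hv
      induction hv using Submodule.span_induction with
      | mem v hv =>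
        obtain ⟨p, hp, rfl⟩ := hv
        exact ⟨1, p, fun h => (Ideal.IsPrime.comap _).ne_top ((Ideal.eq_top_iff_one _).2 h), hp, by
          rw [map_one, one_smul]⟩
      | zero =>
        exact ⟨1, 0, fun h => (Ideal.IsPrime.comap _).ne_top ((Ideal.eq_top_iff_one _).2 h),
          zero_mem _, by rw [map_one, one_smul, map_zero]⟩
      | add v v' _ _ hv hv' =>
        obtain ⟨c, p, hc, hp, e⟩ := hv
        obtain ⟨c', p', hc', hp', e'⟩ := hv'
        refine ⟨c * c', c' • p + c • p', fun h => ((Ideal.IsPrime.comap _).mem_or_mem h).elim hc hc',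
          add_mem (P.smul_mem _ hp) (P.smul_mem _ hp'), ?_⟩
        rw [smul_add, map_mul, map_add, germ_smul, germ_smul, ← e, ← e', smul_smul, smul_smul,
          mul_comm (X.presheaf.germ U z hz c') (X.presheaf.germ U z hz c)]
      | smul r v _ hv =>
        obtain ⟨c, p, hc, hp, e⟩ := hv
        obtain ⟨a, s, hs, hr⟩ := exists_frac hU hz r
        refine ⟨s * c, a • p, fun h => ((Ideal.IsPrime.comap _).mem_or_mem h).elim hs hc,
          P.smul_mem _ hp, ?_⟩
        rw [germ_smul, ← e, map_mul, smul_smul, smul_smul, ← hr]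
        congr 1
        ring
    obtain ⟨c, p, hc, hp, e⟩ := key _ h
    rw [← germ_smul, ← sub_eq_zero, ← map_sub] at e
    obtain ⟨d, hd, hde⟩ := (StalkLoc.Basic.germ_eq_zero_iff hU hz _).1 e
    rw [smul_sub, sub_eq_zero] at hde
    refine ⟨d * c, fun h => ((Ideal.IsPrime.comap _).mem_or_mem h).elim ((not_mem_pr hz d).2 hd) hc, ?_⟩
    rw [mul_smul, hde]
    exact P.smul_mem _ hp
  · rintro ⟨c, hc, hcw⟩
    rw [← Submodule.smul_mem_iff_of_isUnit _ ((X.mem_basicOpen c z hz).1 ((not_mem_pr hz c).1 hc)),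
      ← germ_smul]
    exact Submodule.subset_span ⟨_, hcw, rfl⟩

theorem not_mem_img (hU : IsAffineOpen U) {z : X} (hz : z ∈ U) {P : Submodule Γ(X, U) Γ(M, U)}
    {a : U × Γ(M, U)} (ha : ∀ c : Γ(X, U), c ∈ pr a.1.2 ↔ c • a.2 ∈ P) :
    M.presheaf.germ U z hz a.2 ∉ img M hz P ↔ a.1.1 ⤳ z := by
  rw [germ_mem_img_iff M hU hz, ← pr_le_iff hU a.1.2 hz, SetLike.le_def]
  constructor
  · intro h c hc
    by_contra hne
    exact h ⟨c, hne, (ha c).1 hc⟩
  · rintro h ⟨c, hc, hcw⟩
    exact hc (h ((ha c).2 hcw))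

theorem germ_ne_zero (hU : IsAffineOpen U) {P : Submodule Γ(X, U) Γ(M, U)}
    {a : U × Γ(M, U)} (ha : ∀ c : Γ(X, U), c ∈ pr a.1.2 ↔ c • a.2 ∈ P) :
    Nontrivial (M.presheaf.stalk a.1.1) :=
  ⟨M.presheaf.germ U a.1.1 a.1.2 a.2, 0, fun h => (not_mem_img M hU a.1.2 ha).2 specializes_rfl
    (by rw [h]; exact zero_mem _)⟩

theorem smul_germ_mem (hU : IsAffineOpen U) {z : X} (hz : z ∈ U) {P : Submodule Γ(X, U) Γ(M, U)}
    {a : U × Γ(M, U)} (ha : ∀ c : Γ(X, U), c ∈ pr a.1.2 ↔ c • a.2 ∈ P) (h : a.1.1 ⤳ z)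
    (r : X.presheaf.stalk z) (hr : X.presheaf.stalkSpecializes h r ∈ maximalIdeal _) :
    r • M.presheaf.germ U z hz a.2 ∈ img M hz P := by
  obtain ⟨b, s, hs, hb⟩ := exists_frac hU hz r
  have hb' : b ∈ pr a.1.2 := by
    rw [pr, Ideal.mem_comap]
    have e : ∀ t : Γ(X, U), X.presheaf.stalkSpecializes h (X.presheaf.germ U z hz t) =
        X.presheaf.germ U a.1.1 a.1.2 t := fun t =>
      ConcreteCategory.congr_hom (TopCat.Presheaf.germ_stalkSpecializes X.presheaf hz h) t
    show X.presheaf.germ U a.1.1 a.1.2 b ∈ maximalIdeal _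
    rw [← e b, ← hb, map_mul]
    exact Ideal.mul_mem_left _ _ hr
  rw [← Submodule.smul_mem_iff_of_isUnit _ ((X.mem_basicOpen s z hz).1 ((not_mem_pr hz s).1 hs)),
    smul_smul, hb, ← germ_smul]
  exact Submodule.subset_span ⟨_, (ha b).1 hb', rfl⟩

open scoped Classical

/-- The frame at a point of the affine open. -/
def gAt (L : List (U × Γ(M, U))) (ξ : X) : List (M.presheaf.stalk ξ) :=
  L.filterMap fun a => if h : a.1.1 = ξ then some (M.presheaf.germ U ξ (h ▸ a.1.2) a.2) else none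

/-- The list of steps at a point. -/
def stepsAt (δ : X → ℤ) (k : ℤ) {x : X} (hx : x ∈ U) (L : List (U × Γ(M, U))) :
    List (Big δ k x × M.presheaf.stalk x) :=
  L.filterMap fun a => if h : δ a.1.1 = k + 1 ∧ a.1.1 ⤳ x then
    some (⟨a.1.1, h⟩, M.presheaf.germ U x hx a.2) else none

theorem proj_steps {x : X} (hx : x ∈ U) (L : List (U × Γ(M, U))) (η : Big δ k x) :
    Flag.proj η ((stepsAt M δ k hx L).map fun b => (⟨b.1, phi M δ k x b.2 b.1⟩ : Σ ξ, V M δ k x ξ)) =
      gAt M L η.1 := by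
  induction L with
  | nil => rfl
  | cons a L ih =>
    by_cases hη : a.1.1 = η.1
    · obtain ⟨⟨y, hy⟩, w⟩ := a
      obtain ⟨z, hz1, hz2⟩ := η
      dsimp at hη
      subst hη
      rw [stepsAt, List.filterMap_cons, dif_pos (show δ y = k + 1 ∧ y ⤳ x from ⟨hz1, hz2⟩)]
      simp only [List.map_cons]
      rw [Flag.proj_cons_self (⟨(⟨y, hz1, hz2⟩ : Big δ k x), phi M δ k x (M.presheaf.germ U x hx w) ⟨y, hz1, hz2⟩⟩ : Σ ξ, V M δ k x ξ)]
      rw [gAt, List.filterMap_cons, dif_pos rfl]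
      simp only
      congr 1
      exact ConcreteCategory.congr_hom (TopCat.Presheaf.germ_stalkSpecializes M.presheaf hx hz2) w
    · rw [gAt, List.filterMap_cons, dif_neg hη, stepsAt, List.filterMap_cons]
      by_cases h : δ a.1.1 = k + 1 ∧ a.1.1 ⤳ x
      · rw [dif_pos h]
        simp only [List.map_cons]
        rw [Flag.proj_cons_ne _ _ (fun e => hη (congrArg Subtype.val e))]
        exact ih
      · rw [dif_neg h]
        exact ih

variable [IsLocallyNoetherian X] (hδ : Cyc.IsDimFun X δ)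

include hδ in
theorem frame1_gAt (hM : Cyc.CohLe δ (k + 1) M) (hU : IsAffineOpen U) {ξ : X} (hξU : ξ ∈ U)
    (hξ : δ ξ = k + 1) (L : List (U × Γ(M, U))) (P : Submodule Γ(X, U) Γ(M, U)) (h : PF M P L) :
    Flag.Frame1 (img M hξU P) (gAt M L ξ) := by
  induction L generalizing P with
  | nil =>
    have h : P = ⊤ := h
    subst h
    exact img_top M hU hξU
  | cons a L ih =>
    obtain ⟨ha, hL⟩ := h
    rw [gAt, List.filterMap_cons]
    by_cases he : a.1.1 = ξ
    · rw [dif_pos he]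
      refine ⟨⟨(not_mem_img M hU hξU ha).2 (specializes_of_eq he), fun m hm => ?_⟩, ?_⟩
      · refine smul_germ_mem M hU hξU ha (specializes_of_eq he) m ?_
        subst he
        rw [TopCat.Presheaf.stalkSpecializes_refl]
        exact hm
      · rw [← img_sup]
        exact ih _ hL
    · rw [dif_neg he]
      have hmem : M.presheaf.germ U ξ hξU a.2 ∈ img M hξU P := by
        by_contra hne
        have hs := (not_mem_img M hU hξU ha).1 hne
        have := DimFun.lt_of_specializes hδ hs he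
        have := hM.2 _ (germ_ne_zero M hU ha)
        omega
      have e : img M hξU (P ⊔ Submodule.span _ {a.2}) = img M hξU P := by
        rw [img_sup, sup_eq_left, Submodule.span_singleton_le_iff_mem]
        exact hmem
      exact e ▸ ih _ hL

include hδ in
theorem filt_steps (hM : Cyc.CohLe δ (k + 1) M) (hU : IsAffineOpen U) {x : X} (hx : x ∈ U)
    (hxk : δ x = k) (L : List (U × Γ(M, U))) (P : Submodule Γ(X, U) Γ(M, U)) (h : PF M P L)
    (hbad : ∀ a ∈ L, a.1.1 ≠ x) :
    Filt (phi M δ k x) (img M hx P) (fun η : Big δ k x => img M (η.2.2.mem_open U.2 hx) P)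
      (stepsAt M δ k hx L) := by
  induction L generalizing P with
  | nil =>
    have h : P = ⊤ := h
    subst h
    exact img_top M hU hx
  | cons a L ih =>
    obtain ⟨ha, hL⟩ := h
    have ih := ih _ hL fun b hb => hbad b (List.mem_cons_of_mem _ hb)
    rw [stepsAt, List.filterMap_cons]
    by_cases hs : a.1.1 ⤳ x
    · have hd : δ a.1.1 = k + 1 := by
        have := DimFun.lt_of_specializes hδ hs (hbad a List.mem_cons_self)
        have := hM.2 _ (germ_ne_zero M hU ha)
        omega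
      rw [dif_pos ⟨hd, hs⟩]
      let i : Big δ k x := ⟨a.1.1, hd, hs⟩
      have hphi : ∀ η : Big δ k x, phi M δ k x (M.presheaf.germ U x hx a.2) η =
          M.presheaf.germ U η.1 (η.2.2.mem_open U.2 hx) a.2 := fun η =>
        ConcreteCategory.congr_hom (TopCat.Presheaf.germ_stalkSpecializes M.presheaf hx η.2.2) a.2
      refine ⟨?_, fun r hr => smul_germ_mem M hU hx ha hs r hr, fun η hη => ?_, ?_⟩
      · show phi M δ k x (M.presheaf.germ U x hx a.2) i ∉ _
        rw [hphi]
        exact (not_mem_img M hU _ ha).2 specializes_rfl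
      · rw [hphi]
        by_contra hne
        have hsp := (not_mem_img M hU _ ha).1 hne
        exact hη (Subtype.ext (DimFun.eq_of_specializes_of_le hδ hsp
          (hd.trans η.2.1.symm).le).symm)
      · show Filt _ _ _ (stepsAt M δ k hx L)
        convert ih using 1
        · exact (img_sup M hx P a.2).symm
        · funext η
          rw [img_sup]
          by_cases hη : η = i
          · subst hη
            rw [Flag.upd_same (fun η : Big δ k x => img M (η.2.2.mem_open U.2 hx) P)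
              (⟨i, phi M δ k x (M.presheaf.germ U x hx a.2) i⟩ : Σ ξ, V M δ k x ξ)]
            rw [hphi]
          · rw [Flag.upd_ne _ (⟨i, phi M δ k x (M.presheaf.germ U x hx a.2) i⟩ : Σ ξ, V M δ k x ξ) hη]
            symm
            rw [sup_eq_left, Submodule.span_singleton_le_iff_mem]
            by_contra hne
            have hsp := (not_mem_img M hU _ ha).1 hne
            exact hη (Subtype.ext (DimFun.eq_of_specializes_of_le hδ hsp
              (hd.trans η.2.1.symm).le).symm)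
    · rw [dif_neg fun h => hs h.2]
      have e : ∀ {z : X} (hz : z ∈ U), z ⤳ x →
          img M hz (P ⊔ Submodule.span _ {a.2}) = img M hz P := fun {z} hz hzx => by
        rw [img_sup, sup_eq_left, Submodule.span_singleton_le_iff_mem]
        by_contra hne
        exact hs (((not_mem_img M hU hz ha).1 hne).trans hzx)
      show Filt _ _ _ (stepsAt M δ k hx L)
      convert ih using 1
      · exact (e hx specializes_rfl).symm
      · funext η
        exact (e _ η.2.2).symm

include hδ in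
/-- Over an affine open some frames have index zero outside finitely many points. -/
theorem exists_good (hM : Cyc.CohLe δ (k + 1) M) (hU : IsAffineOpen U) (F : Fr M)
    (hF : Valid δ k F) :
    ∃ G : Fr M, Valid δ k G ∧ {x | x ∈ U ∧ δ x = k ∧ dx hδ hM G x ≠ 0}.Finite := by
  haveI := CohBasics.Closure.finite_sections hM.1 hU
  obtain ⟨L, hL⟩ := exists_pf M hU (⊥ : Submodule Γ(X, U) Γ(M, U))
  let G : Fr M := fun ξ => if ξ ∈ U then gAt M L ξ else F ξ
  have hG : Valid δ k G := fun ξ hξ => by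
    by_cases hξU : ξ ∈ U
    · have := frame1_gAt M hδ hM hU hξU hξ L ⊥ hL
      rw [img_bot] at this
      simpa [G, hξU] using this
    · simpa [G, hξU] using hF ξ hξ
  refine ⟨G, hG, (L.map fun a => a.1.1).finite_toSet.subset fun x hx => ?_⟩
  obtain ⟨hxU, hxk, hne⟩ := hx
  by_contra hbad
  have hb : ∀ a ∈ L, a.1.1 ≠ x := fun a ha he => hbad (List.mem_map.2 ⟨a, ha, he⟩)
  have hf := filt_steps M hδ hM hU hxU hxk L ⊥ hL hb
  simp only [img_bot] at hf
  refine hne ?_
  rw [dx_eq hδ hM hG hxk _ (fun η => (proj_steps M hxU L η).trans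
    (if_pos (η.2.2.mem_open U.2 hxU)).symm)]
  exact filt_D _ _ hf

end

end Groth.Agent.Lib.Cyc.Retr.LocFin
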