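import Groth.Agent.Lib.Cyc.Retr.Additive
import Groth.Agent.Lib.Cyc.Retr.LocFin
import Groth.Prelude.Def_ChowOps

/-!
# The retraction `K₀(Coh_{≤k+1}/Coh_{≤k-1}) → CH_k`
-/

set_option autoImplicit false
set_option linter.style.haveILetI false
universe u

open CategoryTheory AlgebraicGeometry IsLocalRing

namespace Groth.Agent.Lib.Cyc.Retr.Main

open Groth.Agent.Lib Groth.Agent.Lib.Cyc Groth.Agent.Lib.Cyc.Retr Groth.Agent.Lib.Cyc.Retr.Point
  Groth.Agent.Lib.Cyc.Retr.Frames Groth.Agent.Lib.KRes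

open scoped Classical

variable {X : Scheme.{u}}

/-- The kernel of the class map is rational equivalence. -/
theorem cl_eq_cl_iff [IsLocallyNoetherian X] {δ : X → ℤ} (hδ : Cyc.IsDimFun X δ) {k : ℤ}
    {α β : AlgebraicCycle X ℤ} (hα : α ∈ Cyc.Zk X δ k) (hβ : β ∈ Cyc.Zk X δ k) :
    ChowOps.cl α hα = ChowOps.cl β hβ ↔ Cyc.RatEquiv δ k α β := by
  rw [ChowOps.cl, ChowOps.cl, ← sub_eq_zero, ← map_sub, ChowOps.clHom, QuotientAddGroup.mk'_apply,
    QuotientAddGroup.eq_zero_iff]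
  constructor
  · intro h
    have key : ∀ a ∈ ChowOps.ratTriv X δ k, Cyc.RatEquivZero δ k (a : AlgebraicCycle X ℤ) := by
      intro a ha
      induction ha using AddSubgroup.closure_induction with
      | mem a ha => exact ha
      | zero => exact Ord.ratEquivZero_zero δ k
      | add a b _ _ ha hb => exact Ord.ratEquivZero_add ha hb
      | neg a _ ha => exact Ord.ratEquivZero_neg hδ ha
    exact key _ h
  · intro h
    exact AddSubgroup.subset_closure h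

variable [IsLocallyNoetherian X] {δ : X → ℤ} {k : ℤ} (hδ : Cyc.IsDimFun X δ) {M : X.Modules}
  (hM : Cyc.CohLe δ (k + 1) M)

/-- The points of dimension `k + 1` in the support. -/
abbrev BigSupp (δ : X → ℤ) (k : ℤ) (M : X.Modules) : Type u :=
  {ξ : X // δ ξ = k + 1 ∧ Nontrivial (M.presheaf.stalk ξ)}

include hδ hM in
theorem bigSupp_lf (x : X) :
    ∃ U : Set X, IsOpen U ∧ x ∈ U ∧ {i : BigSupp δ k M | (closure {i.1} ∩ U).Nonempty}.Finite := by
  obtain ⟨U, hxU, hfin⟩ := K0.Cycles.finite_support (k + 1) hδ hM x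
  refine ⟨U, U.2, hxU, (hfin.preimage Subtype.val_injective.injOn).subset ?_⟩
  rintro i ⟨z, hz, hzU⟩
  exact ⟨(specializes_iff_mem_closure.2 hz).mem_open U.2 hzU, i.2.1, i.2.2⟩

theorem exists_finsum {F G : Fr M} (hF : Valid δ k F) (hG : Valid δ k G) :
    ∃ f : (ξ : X) → X.residueField ξ, (∀ ξ, f ξ ≠ 0) ∧ ∀ x,
      dx hδ hM F x - dx hδ hM G x =
        ∑ᶠ i : BigSupp δ k M, Cyc.divFun δ i.1 (f i.1) x := by
  obtain ⟨f, hf, h⟩ := exists_dx_sub hδ hM hF hG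
  refine ⟨f, hf, fun x => ?_⟩
  by_cases hx : δ x = k
  swap
  · rw [dx, dx, if_neg hx, if_neg hx, sub_zero]
    exact (finsum_eq_zero_of_forall_eq_zero fun i =>
      dif_neg fun hc => hx (by have := i.2.1; omega)).symm
  · let g : {ξ : Big δ k x // Nontrivial (M.presheaf.stalk ξ.1)} → BigSupp δ k M :=
      fun ξ => ⟨ξ.1.1, ξ.1.2.1, ξ.2⟩
    have hg : Function.Injective g := fun a b hab =>
      Subtype.ext (Subtype.ext (congrArg (fun i : BigSupp δ k M => i.1) hab))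
    let emb : {ξ // ξ ∈ (finite_big (k := k) hδ hM x).toFinset} ↪ BigSupp δ k M :=
      ⟨fun ξ => g ⟨ξ.1, (Set.Finite.mem_toFinset (finite_big (k := k) hδ hM x)).1 ξ.2⟩, fun a b hab => by
        have h1 : (⟨a.1, _⟩ : {ξ : Big δ k x // Nontrivial (M.presheaf.stalk ξ.1)}) = ⟨b.1, _⟩ := hg hab
        exact Subtype.ext (by simpa using h1)⟩
    let t := (finite_big (k := k) hδ hM x).toFinset.attach.map emb
    rw [finsum_eq_sum_of_support_subset (s := t) _ ?_, h x hx, suppList, Finset.sum_map_toList,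
      Finset.sum_map, ← Finset.sum_attach (finite_big (k := k) hδ hM x).toFinset]
    · refine Finset.sum_congr rfl fun ξ _ => ?_
      simp only [emb, Function.Embedding.coeFn_mk, g]
      rw [Cyc.divFun, dif_pos ⟨ξ.1.2.2, by have := ξ.1.2.1; omega⟩]
    · intro i hi
      have hsp : i.1 ⤳ x := by
        by_contra hc
        exact hi (Ord.divFun_eq_zero_of_not_specializes δ _ _ _ hc)
      simp only [t, emb, Finset.coe_map, Set.mem_image, Function.Embedding.coeFn_mk, Finset.mem_coe,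
        Finset.mem_attach, true_and, Subtype.exists, Set.Finite.mem_toFinset]
      exact ⟨i.1, ⟨i.2.1, hsp⟩, i.2.2, rfl⟩

theorem dx_locFin {F : Fr M} (hF : Valid δ k F) (z : X) :
    ∃ U : Set X, IsOpen U ∧ z ∈ U ∧ (U ∩ Function.support (dx hδ hM F)).Finite := by
  haveI := hM.1.1
  obtain ⟨_, ⟨U, hU, rfl⟩, hzU, -⟩ :=
    X.isBasis_affineOpens.exists_subset_of_mem_open (Set.mem_univ z) isOpen_univ
  obtain ⟨G, hG, hGfin⟩ := LocFin.exists_good M hδ hM hU F hF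
  obtain ⟨f, -, hf⟩ := exists_finsum hδ hM hF hG
  obtain ⟨W, hW, hzW, hWfin⟩ := bigSupp_lf hδ hM z
  choose V hV hzV hVfin using fun i : BigSupp δ k M => Ord.exists_open_finite_divFun hδ i.1 (f i.1) z
  refine ⟨↑U ∩ W ∩ ⋂ i ∈ hWfin.toFinset, V i,
    (U.2.inter hW).inter (isOpen_biInter_finset fun i _ => hV i),
    ⟨⟨hzU, hzW⟩, Set.mem_iInter₂.2 fun i _ => hzV i⟩,
    (hGfin.union (hWfin.toFinset.finite_toSet.biUnion fun i _ => hVfin i)).subset ?_⟩
  rintro x ⟨⟨⟨hxU, hxW⟩, hxV⟩, hx⟩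
  by_cases hG0 : dx hδ hM G x = 0
  · refine Or.inr ?_
    have hne : ∑ᶠ i : BigSupp δ k M, Cyc.divFun δ i.1 (f i.1) x ≠ 0 := by
      rw [← hf, hG0, sub_zero]; exact hx
    obtain ⟨i, hi⟩ : ∃ i : BigSupp δ k M, Cyc.divFun δ i.1 (f i.1) x ≠ 0 := by
      by_contra hc
      exact hne (finsum_eq_zero_of_forall_eq_zero fun i => by simpa using fun h => hc ⟨i, h⟩)
    have hiW : i ∈ hWfin.toFinset := by
      rw [Set.Finite.mem_toFinset]
      refine ⟨x, specializes_iff_mem_closure.1 ?_, hxW⟩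
      by_contra hc
      exact hi (Ord.divFun_eq_zero_of_not_specializes δ _ _ _ hc)
    exact Set.mem_iUnion₂.2 ⟨i, hiW, Set.mem_iInter₂.1 hxV i hiW, hi⟩
  · refine Or.inl ⟨hxU, ?_, hG0⟩
    by_contra hxk
    exact hG0 (if_neg hxk)

/-- The index cycle. -/
noncomputable def cycle {F : Fr M} (hF : Valid δ k F) : AlgebraicCycle X ℤ where
  toFun := dx hδ hM F
  supportWithinDomain' := Set.subset_univ _
  supportLocallyFiniteWithinDomain' z _ := by
    obtain ⟨U, hU, hz, hfin⟩ := dx_locFin hδ hM hF z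
    exact ⟨U, hU.mem_nhds hz, hfin⟩

theorem cycle_apply {F : Fr M} (hF : Valid δ k F) (x : X) :
    cycle hδ hM hF x = dx hδ hM F x := rfl

theorem cycle_mem {F : Fr M} (hF : Valid δ k F) : cycle hδ hM hF ∈ Cyc.Zk X δ k :=
  fun _ hx => if_neg hx

/-- Its class does not depend on the frames. -/
theorem cl_cycle {F G : Fr M} (hF : Valid δ k F) (hG : Valid δ k G) :
    ChowOps.cl _ (cycle_mem hδ hM hF) = ChowOps.cl _ (cycle_mem hδ hM hG) := by
  rw [cl_eq_cl_iff hδ]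
  obtain ⟨f, hf, h⟩ := exists_finsum hδ hM hF hG
  exact ⟨BigSupp δ k M, fun i => i.1, fun i => f i.1, fun i => i.2.1, fun i => hf _,
    bigSupp_lf hδ hM, fun x => h x⟩

/-- The class of a module. -/
noncomputable def dCl (hδ : Cyc.IsDimFun X δ) (k : ℤ) (M : X.Modules) : ChowOps.CH X δ k :=
  if h : Cyc.CohLe δ (k + 1) M then
    ChowOps.cl _ (cycle_mem hδ h (exists_valid hδ h).choose_spec)
  else 0

theorem dCl_eq {F : Fr M} (hF : Valid δ k F) :
    dCl hδ k M = ChowOps.cl _ (cycle_mem hδ hM hF) := by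
  rw [dCl, dif_pos hM]
  exact cl_cycle hδ hM _ hF

omit [IsLocallyNoetherian X] in
theorem cl_add {α β γ : AlgebraicCycle X ℤ} (hα : α ∈ Cyc.Zk X δ k) (hβ : β ∈ Cyc.Zk X δ k)
    (hγ : γ ∈ Cyc.Zk X δ k) (h : ∀ x, α x = β x + γ x) :
    ChowOps.cl α hα = ChowOps.cl β hβ + ChowOps.cl γ hγ := by
  rw [ChowOps.cl, ChowOps.cl, ChowOps.cl, ← map_add]
  congr 1
  exact Subtype.ext (Function.locallyFinsuppWithin.ext h)

theorem dCl_add {T : ShortComplex X.Modules} (hT : T.ShortExact)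
    (h₁ : Cyc.CohLe δ (k + 1) T.X₁) (h₂ : Cyc.CohLe δ (k + 1) T.X₂)
    (h₃ : Cyc.CohLe δ (k + 1) T.X₃) :
    dCl hδ k T.X₂ = dCl hδ k T.X₁ + dCl hδ k T.X₃ := by
  obtain ⟨F₁, hF₁⟩ := exists_valid hδ h₁
  obtain ⟨F₃, hF₃⟩ := exists_valid hδ h₃
  obtain ⟨F₂, hF₂, hsum⟩ := Additive.exists_dx_add hδ hT h₁ h₂ h₃ hF₁ hF₃
  rw [dCl_eq hδ h₁ hF₁, dCl_eq hδ h₂ hF₂, dCl_eq hδ h₃ hF₃]
  refine cl_add _ _ _ fun x => ?_
  rw [cycle_apply, cycle_apply, cycle_apply]
  by_cases hx : δ x = k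
  · exact hsum x hx
  · simp [dx, hx]

/-- In dimension `≤ k` the class is that of the length cycle. -/
theorem dCl_of_le (hM' : Cyc.CohLe δ k M) (α : AlgebraicCycle X ℤ) (hα : α ∈ Cyc.Zk X δ k)
    (h : ⇑α = Cyc.sheafFun δ k M) : dCl hδ k M = ChowOps.cl α hα := by
  have hM : Cyc.CohLe δ (k + 1) M := ⟨hM'.1, fun x hx => (hM'.2 x hx).trans (by omega)⟩
  obtain ⟨F, hF⟩ := exists_valid hδ hM
  rw [dCl_eq hδ hM hF]
  congr 1
  · refine Function.locallyFinsuppWithin.ext fun x => ?_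
    rw [cycle_apply, h]
    by_cases hx : δ x = k
    · exact dx_of_le hδ hM hM' hx
    · simp [dx, hx, Cyc.sheafFun]

theorem dCl_eq_zero (hM' : Cyc.CohLe δ (k - 1) M) : dCl hδ k M = 0 := by
  have hM'' : Cyc.CohLe δ k M := ⟨hM'.1, fun x hx => (hM'.2 x hx).trans (by omega)⟩
  rw [dCl_of_le hδ hM'' 0 (fun x _ => rfl) ?_]
  · rw [ChowOps.cl]
    exact map_zero _
  · funext x
    simp only [Cyc.sheafFun]
    split_ifs with hx
    · haveI : Subsingleton (M.presheaf.stalk x) := not_nontrivial_iff_subsingleton.1 fun h => by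
        have := hM'.2 x h; omega
      rw [Module.length_eq_zero]
      rfl
    · rfl

/-- The retraction. -/
noncomputable def retr (hδ : Cyc.IsDimFun X δ) (k : ℤ) :
    Cyc.K0CohQuot δ (k + 1) (k - 1) →+ ChowOps.CH X δ k :=
  QuotientAddGroup.lift _ (KSub.lift (fun M => dCl hδ k M)
    fun _ hT h₁ h₂ h₃ => dCl_add hδ hT h₁ h₂ h₃) <| by
    refine (AddSubgroup.closure_le _).2 ?_
    rintro _ ⟨F, hF, rfl⟩
    have hF' : Cyc.CohLe δ (k + 1) F := ⟨hF.1, fun x hx => (hF.2 x hx).trans (by omega)⟩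
    rw [SetLike.mem_coe, AddMonoidHom.mem_ker, KSub.lift_cl _ _ hF']
    exact dCl_eq_zero hδ hF

include hM in
theorem retr_cl : retr hδ k (Cyc.toK0CohQuot δ (k + 1) (k - 1) M) = dCl hδ k M := by
  rw [Cyc.toK0CohQuot, retr, QuotientAddGroup.lift_mk, KSub.lift_cl _ _ hM]

include hδ in
/-- Equal classes in `K₀` give rationally equivalent cycles. -/
theorem ratEquiv_of_cl_eq {P Q : X.Modules} (hP : Cyc.CohLe δ k P) (hQ : Cyc.CohLe δ k Q)
    (h : Cyc.toK0CohQuot δ (k + 1) (k - 1) P = Cyc.toK0CohQuot δ (k + 1) (k - 1) Q)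
    (α β : AlgebraicCycle X ℤ) (hα : ⇑α = Cyc.sheafFun δ k P) (hβ : ⇑β = Cyc.sheafFun δ k Q) :
    Cyc.RatEquiv δ k α β := by
  have hz : ∀ {γ : AlgebraicCycle X ℤ} {R : X.Modules}, ⇑γ = Cyc.sheafFun δ k R →
      γ ∈ Cyc.Zk X δ k := fun {γ R} hγ x hx => by rw [hγ]; exact if_neg hx
  rw [← cl_eq_cl_iff hδ (hz hα) (hz hβ), ← dCl_of_le hδ hP α _ hα, ← dCl_of_le hδ hQ β _ hβ,
    ← retr_cl hδ ⟨hP.1, fun x hx => (hP.2 x hx).trans (by omega)⟩,
    ← retr_cl hδ ⟨hQ.1, fun x hx => (hQ.2 x hx).trans (by omega)⟩, h]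

end Groth.Agent.Lib.Cyc.Retr.Main
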