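import Groth.Agent.Lib.Cyc.Retr.Flag
import Mathlib.RingTheory.Artinian.Module

/-!
# Rearranging frames
-/

universe u

namespace Groth.Agent.Lib.Cyc.Retr.Flag

open Submodule IsLocalRing

set_option linter.style.haveILetI false
set_option linter.unusedSectionVars false

section One

variable {S : Type u} [CommRing S] [IsLocalRing S] {V : Type u} [AddCommGroup V] [Module S V]

/-- One admissible step in one coordinate. -/
def OK1 (U : Submodule S V) (v : V) : Prop := v ∉ U ∧ ∀ m ∈ maximalIdeal S, m • v ∈ U

/-- A frame of one coordinate. -/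
def Frame1 : Submodule S V → List V → Prop
  | U, [] => U = ⊤
  | U, v :: l => OK1 U v ∧ Frame1 (U ⊔ Submodule.span S {v}) l

theorem exists_frame1 [IsNoetherian S V] [IsArtinian S V] (U : Submodule S V) :
    ∃ l, Frame1 U l := by
  induction U using (IsWellFounded.wf (r := fun A B : Submodule S V => B < A)).induction with
  | _ U ih =>
    by_cases h : U = ⊤
    · exact ⟨[], h⟩
    · obtain ⟨T, hT, hmin⟩ := IsArtinian.set_has_minimal {T : Submodule S V | U < T}
        ⟨⊤, lt_top_iff_ne_top.2 h⟩
      have hT : U < T := hT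
      obtain ⟨v, hvT, hvU⟩ := SetLike.exists_of_lt hT
      have hlt : U < U ⊔ Submodule.span S {v} :=
        lt_of_le_of_ne le_sup_left fun e =>
          hvU (e ▸ Submodule.mem_sup_right (Submodule.mem_span_singleton_self v))
      obtain ⟨l, hl⟩ := ih _ hlt
      refine ⟨v :: l, ⟨hvU, fun m hm => ?_⟩, hl⟩
      by_contra hne
      have hle : U ⊔ Submodule.span S {m • v} ≤ T := sup_le hT.le
        ((Submodule.span_singleton_le_iff_mem _ _).2 (T.smul_mem _ hvT))
      have heq : U ⊔ Submodule.span S {m • v} = T := by
        by_contra hne'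
        refine hmin (U ⊔ Submodule.span S {m • v}) ?_ (lt_of_le_of_ne hle hne')
        refine lt_of_le_of_ne (le_sup_left : U ≤ U ⊔ Submodule.span S {m • v}) fun e => ?_
        have hmem : m • v ∈ U ⊔ Submodule.span S {m • v} :=
          Submodule.mem_sup_right (Submodule.mem_span_singleton_self (m • v))
        rw [← e] at hmem
        exact hne hmem
      rw [← heq, Submodule.mem_sup] at hvT
      obtain ⟨x, hx, y, hy, hxy⟩ := hvT
      obtain ⟨c, rfl⟩ := Submodule.mem_span_singleton.1 hy
      have hu : IsUnit (1 - c * m) :=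
        IsLocalRing.isUnit_one_sub_self_of_mem_nonunits _ (Ideal.mul_mem_left _ c hm)
      refine hvU ((Submodule.smul_mem_iff_of_isUnit _ hu).1 ?_)
      rw [sub_smul, one_smul, mul_smul, show v - c • m • v = x from sub_eq_of_eq_add hxy.symm]
      exact hx

/-- Any two frames are connected by scalings and transpositions. -/
theorem jh [IsNoetherian S V] [IsArtinian S V] (E : Submodule S V → List V → List V → Prop)
    (hrefl : ∀ U l, E U l l) (htrans : ∀ U l l' l'', E U l l' → E U l' l'' → E U l l'')
    (hcons : ∀ (U : Submodule S V) (v : V) (l l' : List V), OK1 U v → E (U ⊔ Submodule.span S {v}) l l' → E U (v :: l) (v :: l'))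
    (hscale : ∀ (U : Submodule S V) (v v' : V) (c : S) (l : List V), OK1 U v → OK1 U v' → IsUnit c → v' - c • v ∈ U →
      E U (v :: l) (v' :: l))
    (hswap : ∀ (U : Submodule S V) (a b : V) (l : List V), OK1 U a → OK1 U b → OK1 (U ⊔ Submodule.span S {a}) b →
      OK1 (U ⊔ Submodule.span S {b}) a → E U (a :: b :: l) (b :: a :: l)) :
    ∀ (n : ℕ) (U : Submodule S V) (l l' : List V), l.length = n → Frame1 U l → Frame1 U l' →
      E U l l' ∧ l'.length = n := by
  intro n
  induction n with
  | zero =>
    intro U l l' hl h h'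
    obtain rfl := List.length_eq_zero_iff.1 hl
    cases l' with
    | nil => exact ⟨hrefl _ _, rfl⟩
    | cons v l' =>
      have h : U = ⊤ := h
      exact absurd (h ▸ Submodule.mem_top) h'.1.1
  | succ n ih =>
    intro U l l' hl h h'
    obtain ⟨a, l, rfl⟩ := List.exists_cons_of_length_eq_add_one hl
    have hl : l.length = n := by simpa using hl
    obtain ⟨ha, hF⟩ := h
    cases l' with
    | nil =>
      have h' : U = ⊤ := h'
      exact absurd (h' ▸ Submodule.mem_top) ha.1
    | cons b l' =>
      obtain ⟨hb, hG⟩ := h'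
      by_cases hba : b ∈ U ⊔ Submodule.span S {a}
      · obtain ⟨x, hx, y, hy, hxy⟩ := Submodule.mem_sup.1 hba
        obtain ⟨c, rfl⟩ := Submodule.mem_span_singleton.1 hy
        have hc : IsUnit c := by
          by_contra hne
          exact hb.1 (hxy ▸ U.add_mem hx (ha.2 c ((mem_maximalIdeal _).2 hne)))
        have hxc : b - c • a = x := by rw [← hxy]; abel
        have hT : U ⊔ Submodule.span S {b} = U ⊔ Submodule.span S {a} := by
          refine le_antisymm (sup_le le_sup_left ((Submodule.span_singleton_le_iff_mem _ _).2 hba))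
            (sup_le le_sup_left ((Submodule.span_singleton_le_iff_mem _ _).2 ?_))
          rw [← Submodule.smul_mem_iff_of_isUnit _ hc, show c • a = b - x by rw [← hxy]; abel]
          exact sub_mem (Submodule.mem_sup_right (Submodule.mem_span_singleton_self b))
            (Submodule.mem_sup_left hx)
        obtain ⟨e, el⟩ := ih _ l l' hl hF (hT ▸ hG)
        refine ⟨htrans _ _ _ _ (hcons _ _ _ _ ha e) (hscale U a b c l' ha hb hc (hxc ▸ hx)), ?_⟩
        simp [el]
      · have hab : a ∉ U ⊔ Submodule.span S {b} := by
          intro h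
          obtain ⟨x, hx, y, hy, hxy⟩ := Submodule.mem_sup.1 h
          obtain ⟨c, rfl⟩ := Submodule.mem_span_singleton.1 hy
          have hc : IsUnit c := by
            by_contra hne
            exact ha.1 (hxy ▸ U.add_mem hx (hb.2 c ((mem_maximalIdeal _).2 hne)))
          refine hba ((Submodule.smul_mem_iff_of_isUnit _ hc).1 ?_)
          rw [show c • b = a - x by rw [← hxy]; abel]
          exact sub_mem (Submodule.mem_sup_right (Submodule.mem_span_singleton_self a))
            (Submodule.mem_sup_left hx)
        have hab' : OK1 (U ⊔ Submodule.span S {a}) b :=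
          ⟨hba, fun m hm => Submodule.mem_sup_left (hb.2 m hm)⟩
        have hba' : OK1 (U ⊔ Submodule.span S {b}) a :=
          ⟨hab, fun m hm => Submodule.mem_sup_left (ha.2 m hm)⟩
        obtain ⟨H, hH⟩ := exists_frame1 (U ⊔ Submodule.span S {a} ⊔ Submodule.span S {b})
        have hbH : Frame1 (U ⊔ Submodule.span S {a}) (b :: H) := ⟨hab', hH⟩
        have haH : Frame1 (U ⊔ Submodule.span S {b}) (a :: H) :=
          ⟨hba', by rwa [sup_right_comm]⟩
        obtain ⟨e1, n1⟩ := ih _ l (b :: H) hl hF hbH
        have n1' : (a :: H).length = n := by simpa using n1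
        obtain ⟨e2, n2⟩ := ih _ (a :: H) l' n1' haH hG
        exact ⟨htrans _ _ _ _ (hcons _ _ _ _ ha e1) (htrans _ _ _ _ (hswap U a b H ha hb hab' hba')
          (hcons _ _ _ _ hb e2)), by simp [n2]⟩

end One

variable {R : Type u} [CommRing R] {ι : Type u} {S : ι → Type u} [∀ i, CommRing (S i)]
  [∀ i, IsLocalRing (S i)] [∀ i, Algebra R (S i)]
  {V : ι → Type u} [∀ i, AddCommGroup (V i)] [∀ i, Module R (V i)] [∀ i, Module (S i) (V i)]
  [∀ i, IsScalarTower R (S i) (V i)] [DecidableEq ι]

/-- The steps in one coordinate. -/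
def proj (i : ι) : List (Σ i, V i) → List (V i)
  | [] => []
  | a :: L => if h : a.1 = i then (h ▸ a.2) :: proj i L else proj i L

theorem proj_cons_self (a : Σ i, V i) (L : List (Σ i, V i)) :
    proj a.1 (a :: L) = a.2 :: proj a.1 L := by
  simp [proj]

theorem proj_cons_ne {i : ι} (a : Σ i, V i) (L : List (Σ i, V i)) (h : a.1 ≠ i) :
    proj i (a :: L) = proj i L := by
  simp [proj, h]

theorem proj_append (i : ι) (L M : List (Σ i, V i)) :
    proj i (L ++ M) = proj i L ++ proj i M := by
  induction L with
  | nil => rfl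
  | cons a L ih =>
    by_cases h : a.1 = i
    · subst h; rw [List.cons_append, proj_cons_self, proj_cons_self, ih]; rfl
    · rw [List.cons_append, proj_cons_ne _ _ h, proj_cons_ne _ _ h, ih]

theorem isFrame_iff (L : List (Σ i, V i)) (U : ∀ i, Submodule (S i) (V i)) :
    IsFrame U L ↔ ∀ i, Frame1 (U i) (proj i L) := by
  induction L generalizing U with
  | nil => exact Iff.rfl
  | cons a L ih =>
    constructor
    · rintro ⟨h, hL⟩ i
      have := (ih _).1 hL i
      by_cases hi : a.1 = i
      · subst hi
        rw [proj_cons_self]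
        exact ⟨h, upd_same U a ▸ this⟩
      · rw [proj_cons_ne _ _ hi]
        rwa [upd_ne U a (Ne.symm hi)] at this
    · intro h
      have ha := h a.1
      rw [proj_cons_self] at ha
      refine ⟨ha.1, (ih _).2 fun i => ?_⟩
      by_cases hi : a.1 = i
      · subst hi
        rw [upd_same]
        exact ha.2
      · have := h i
        rw [proj_cons_ne _ _ hi] at this
        rwa [upd_ne U a (Ne.symm hi)]

theorem eq_nil_of_proj {L : List (Σ i, V i)} (h : ∀ i, proj i L = []) : L = [] := by
  cases L with
  | nil => rfl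
  | cons a L => exact absurd (h a.1) (by rw [proj_cons_self]; exact List.cons_ne_nil _ _)

variable [IsLocalRing R] [IsNoetherianRing R]

theorem bubble (hG : Geom R S) {P : Submodule R (∀ i, V i)} (hP : Gen (S := S) P)
    (a : Σ i, V i) (L : List (Σ i, V i)) (U : ∀ i, Submodule (S i) (V i)) (hL : IsFrame U L)
    {r : List (V a.1)} (h : proj a.1 L = a.2 :: r) :
    ∃ M, IsFrame U (a :: M) ∧ val P U L = val P U (a :: M) ∧
      ∀ i, proj i (a :: M) = proj i L := by
  induction L generalizing U with
  | nil => exact absurd h (List.cons_ne_nil _ _).symm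
  | cons b L ih =>
    by_cases hb : b.1 = a.1
    · have e : b = a := by
        obtain ⟨i, v⟩ := a
        obtain ⟨j, w⟩ := b
        dsimp at hb
        subst hb
        rw [show proj j (⟨j, w⟩ :: L) = w :: proj j L from proj_cons_self ⟨j, w⟩ L,
          List.cons.injEq] at h
        rw [h.1]
      subst e
      exact ⟨L, hL, rfl, fun _ => rfl⟩
    · rw [proj_cons_ne _ _ hb] at h
      obtain ⟨M, hM, hv, hp⟩ := ih _ hL.2 h
      have hproj : ∀ i, proj i (a :: b :: M) = proj i (b :: L) := fun i => by
        by_cases hia : a.1 = i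
        · subst hia
          rw [proj_cons_self, proj_cons_ne _ _ hb, proj_cons_ne _ _ hb, ← hp, proj_cons_self]
        · by_cases hib : b.1 = i
          · subst hib
            rw [proj_cons_ne _ _ hia, proj_cons_self, proj_cons_self, ← hp, proj_cons_ne _ _ hia]
          · rw [proj_cons_ne _ _ hia, proj_cons_ne _ _ hib, proj_cons_ne _ _ hib, ← hp,
              proj_cons_ne _ _ hia]
      have hF : IsFrame U (a :: b :: M) :=
        (isFrame_iff _ _).2 fun i => by rw [hproj]; exact (isFrame_iff _ _).1 hL i
      refine ⟨b :: M, hF, ?_, hproj⟩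
      rw [val, hv]
      exact val_swap hG hP hL.1 hF.1 hM.1 hF.2.1 M

/-- The value only depends on the steps in every coordinate. -/
theorem val_perm (hG : Geom R S) {P : Submodule R (∀ i, V i)} (hP : Gen (S := S) P)
    (L L' : List (Σ i, V i)) (U : ∀ i, Submodule (S i) (V i)) (hL : IsFrame U L)
    (h : ∀ i, proj i L = proj i L') : val P U L = val P U L' := by
  induction L generalizing U L' with
  | nil => rw [eq_nil_of_proj fun i => (h i).symm]
  | cons a L ih =>
    have hL' : IsFrame U L' :=
      (isFrame_iff _ _).2 fun i => by rw [← h]; exact (isFrame_iff _ _).1 hL i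
    obtain ⟨M, -, hv, hp⟩ := bubble hG hP a L' U hL' (r := proj a.1 L)
      (by rw [← h, proj_cons_self])
    rw [hv, val, val, ih M (upd U a) hL.2 fun i => ?_]
    have := (h i).trans (hp i).symm
    by_cases hi : a.1 = i
    · subst hi
      rw [proj_cons_self, proj_cons_self, List.cons.injEq] at this
      exact this.2
    · rwa [proj_cons_ne _ _ hi, proj_cons_ne _ _ hi] at this

theorem val_append (P : Submodule R (∀ i, V i)) (L M : List (Σ i, V i))
    (U : ∀ i, Submodule (S i) (V i)) :
    val P U (L ++ M) = val P U L + val P (L.foldl upd U) M := by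
  induction L generalizing U with
  | nil => simp [val]
  | cons a L ih => simp [val, ih, add_assoc]

end Groth.Agent.Lib.Cyc.Retr.Flag
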