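import Groth.Agent.Lib.Cyc.Retr.Add
import Groth.Agent.Lib.Cyc.K0.Cycles
import Groth.Agent.Lib.Cyc.Ord
import Groth.Agent.Lib.Cyc.C1
import Groth.Agent.Lib.StalkLoc.Basic

/-!
# The framed index at a point of a scheme
-/

set_option autoImplicit false
set_option linter.style.haveILetI false
universe u

open CategoryTheory AlgebraicGeometry IsLocalRing TopologicalSpace

namespace Groth.Agent.Lib.Cyc.Retr.Point

open Groth.Agent.Lib Groth.Agent.Lib.Cyc Groth.Agent.Lib.Cyc.Retr Groth.Agent.Lib.Modules.StalkModule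

variable {X : Scheme.{u}} {δ : X → ℤ} {k : ℤ}

noncomputable section

/-- The generalisations of dimension `k + 1`. -/
abbrev Big (δ : X → ℤ) (k : ℤ) (x : X) : Type u := {ξ : X // δ ξ = k + 1 ∧ ξ ⤳ x}

/-- The local rings at the big generalisations. -/
abbrev S (δ : X → ℤ) (k : ℤ) (x : X) (ξ : Big δ k x) : Type u := X.presheaf.stalk ξ.1

/-- The stalks at the big generalisations. -/
abbrev V (M : X.Modules) (δ : X → ℤ) (k : ℤ) (x : X) (ξ : Big δ k x) : Type u :=
  M.presheaf.stalk ξ.1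

instance algStalk (x : X) (ξ : Big δ k x) :
    Algebra (X.presheaf.stalk x) (X.presheaf.stalk ξ.1) :=
  (X.presheaf.stalkSpecializes ξ.2.2).hom.toAlgebra

instance modStalk (M : X.Modules) (x : X) (ξ : Big δ k x) :
    Module (X.presheaf.stalk x) (M.presheaf.stalk ξ.1) :=
  Module.compHom _ (X.presheaf.stalkSpecializes ξ.2.2).hom

instance towerStalk (M : X.Modules) (x : X) (ξ : Big δ k x) :
    IsScalarTower (X.presheaf.stalk x) (X.presheaf.stalk ξ.1) (M.presheaf.stalk ξ.1) :=
  ⟨fun r a v => mul_smul (X.presheaf.stalkSpecializes ξ.2.2 r) a v⟩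

theorem smul_def (M : X.Modules) (x : X) (ξ : Big δ k x) (r : X.presheaf.stalk x)
    (v : M.presheaf.stalk ξ.1) : r • v = X.presheaf.stalkSpecializes ξ.2.2 r • v := rfl

/-- The map to the stalks at the big generalisations. -/
def phi (M : X.Modules) (δ : X → ℤ) (k : ℤ) (x : X) :
    M.presheaf.stalk x →ₗ[X.presheaf.stalk x] ∀ ξ : Big δ k x, V M δ k x ξ where
  toFun v ξ := M.presheaf.stalkSpecializes ξ.2.2 v
  map_add' a b := funext fun ξ => map_add (M.presheaf.stalkSpecializes ξ.2.2).hom a b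
  map_smul' r v := funext fun ξ => C1.stalkSpecializes_smul M ξ.2.2 r v

theorem phi_apply (M : X.Modules) (x : X) (v : M.presheaf.stalk x) (ξ : Big δ k x) :
    phi M δ k x v ξ = M.presheaf.stalkSpecializes ξ.2.2 v := rfl

theorem mem_q {x : X} (ξ : Big δ k x) (r : X.presheaf.stalk x) :
    r ∈ Flag.q (X.presheaf.stalk x) (S δ k x) ξ ↔ Cyc.specMap x ξ.1 ξ.2.2 r = 0 :=
  (IsLocalRing.residue_eq_zero_iff _).symm

theorem q_eq {x : X} (ξ : Big δ k x) :
    Flag.q (X.presheaf.stalk x) (S δ k x) ξ = RingHom.ker (Cyc.specMap x ξ.1 ξ.2.2) :=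
  Ideal.ext fun r => (mem_q ξ r).trans RingHom.mem_ker.symm

theorem geom (hδ : Cyc.IsDimFun X δ) {x : X} (hx : δ x = k) :
    Flag.Geom (X.presheaf.stalk x) (S δ k x) := by
  refine ⟨fun ξ a => ?_, fun ξ p hp hlt => ?_⟩
  · obtain ⟨r, s, hs, hrs⟩ := Ord.exists_specMap_fraction x ξ.1 ξ.2.2 (X.residue ξ.1 a)
    refine ⟨r, s, fun hm => hs ((IsLocalRing.residue_eq_zero_iff _).2 hm), ?_⟩
    refine (IsLocalRing.residue_eq_zero_iff _).1 ?_
    rw [map_sub, map_mul, sub_eq_zero]
    exact (mul_comm _ _).trans hrs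
  · rw [q_eq] at hlt
    let P : PrimeSpectrum (X.presheaf.stalk x) := ⟨p, hp⟩
    have hy : X.fromSpecStalk x P ⤳ x := DimFun.fromSpecStalk_specializes_self x P
    have hspec : ξ.1 ⤳ X.fromSpecStalk x P := by
      rw [← DimFun.fromSpecStalk_genPrime x ξ.1 ξ.2.2, DimFun.fromSpecStalk_specializes_iff]
      exact hlt.le
    by_cases hne : ξ.1 = X.fromSpecStalk x P
    · have hP : P = DimFun.genPrime x ξ.1 ξ.2.2 :=
        DimFun.fromSpecStalk_injective x (by rw [DimFun.fromSpecStalk_genPrime, ← hne])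
      exact absurd (congrArg PrimeSpectrum.asIdeal hP).symm hlt.ne
    · have h1 := DimFun.lt_of_specializes hδ hspec hne
      have hyx : X.fromSpecStalk x P = x :=
        DimFun.eq_of_specializes_of_le hδ hy (by rw [hx]; have := ξ.2.1; omega)
      exact congrArg PrimeSpectrum.asIdeal
        ((DimFun.fromSpecStalk_injective x (hyx.trans Scheme.fromSpecStalk_closedPoint.symm)) :
          P = closedPoint _)

/-- Elements vanishing at a generalisation are killed off it. -/
theorem exists_smul_eq_zero {M : X.Modules} (hM : Coh.IsCoh M) {x y : X} (h : y ⤳ x)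
    (v : M.presheaf.stalk x) (hv : M.presheaf.stalkSpecializes h v = 0) :
    ∃ c, Cyc.specMap x y h c ≠ 0 ∧ c • v = 0 := by
  haveI := hM.1
  obtain ⟨_, ⟨U, hU, rfl⟩, hxU, -⟩ :=
    X.isBasis_affineOpens.exists_subset_of_mem_open (Set.mem_univ x) isOpen_univ
  have hyU : y ∈ U := h.mem_open U.2 hxU
  have hunit : ∀ a : Γ(X, U), y ∈ X.basicOpen a →
      Cyc.specMap x y h (X.presheaf.germ U x hxU a) ≠ 0 := fun a ha => by
    rw [Ord.specMap_germ U x y h hxU a]
    exact (((X.mem_basicOpen a y hyU).mp ha).map (X.residue y).hom).ne_zero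
  obtain ⟨a, t, ha, hat⟩ := StalkLoc.Basic.exists_smul_eq_germ hU hxU v
  have ht : M.presheaf.germ U y hyU t = 0 := by
    have e : M.presheaf.stalkSpecializes h (M.presheaf.germ U x hxU t) = M.presheaf.germ U y hyU t :=
      ConcreteCategory.congr_hom (TopCat.Presheaf.germ_stalkSpecializes M.presheaf hxU h) t
    rw [← e, ← hat, C1.stalkSpecializes_smul, hv, smul_zero]
  obtain ⟨b, hb, hbt⟩ := (StalkLoc.Basic.germ_eq_zero_iff hU hyU t).mp ht
  refine ⟨X.presheaf.germ U x hxU b * X.presheaf.germ U x hxU a, ?_, ?_⟩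
  · rw [map_mul]
    exact mul_ne_zero (hunit b hb) (hunit a (h.mem_open (X.basicOpen a).2 ha))
  · rw [mul_smul, hat, ← germ_smul hxU b t, hbt, map_zero]

/-- Elements at a generalisation are images up to a multiplier. -/
theorem exists_smul_eq_image {M : X.Modules} (hM : Coh.IsCoh M) {x y : X} (h : y ⤳ x)
    (w : M.presheaf.stalk y) :
    ∃ c v, Cyc.specMap x y h c ≠ 0 ∧
      M.presheaf.stalkSpecializes h v = X.presheaf.stalkSpecializes h c • w := by
  haveI := hM.1
  obtain ⟨_, ⟨U, hU, rfl⟩, hxU, -⟩ :=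
    X.isBasis_affineOpens.exists_subset_of_mem_open (Set.mem_univ x) isOpen_univ
  have hyU : y ∈ U := h.mem_open U.2 hxU
  obtain ⟨a, t, ha, hat⟩ := StalkLoc.Basic.exists_smul_eq_germ hU hyU w
  refine ⟨X.presheaf.germ U x hxU a, M.presheaf.germ U x hxU t, ?_, ?_⟩
  · rw [Ord.specMap_germ U x y h hxU a]
    exact (((X.mem_basicOpen a y hyU).mp ha).map (X.residue y).hom).ne_zero
  · rw [show X.presheaf.stalkSpecializes h (X.presheaf.germ U x hxU a) = X.presheaf.germ U y hyU a
      from ConcreteCategory.congr_hom (TopCat.Presheaf.germ_stalkSpecializes X.presheaf hxU h) a, hat]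
    exact ConcreteCategory.congr_hom (TopCat.Presheaf.germ_stalkSpecializes M.presheaf hxU h) t

variable [IsLocallyNoetherian X]

theorem finiteLength (hδ : Cyc.IsDimFun X δ) {M : X.Modules} (hM : Cyc.CohLe δ (k + 1) M) {ξ : X}
    (hξ : δ ξ = k + 1) :
    IsNoetherian (X.presheaf.stalk ξ) (M.presheaf.stalk ξ) ∧
      IsArtinian (X.presheaf.stalk ξ) (M.presheaf.stalk ξ) :=
  isFiniteLength_iff_isNoetherian_isArtinian.1
    (Module.length_ne_top_iff.1 (K0.Cycles.length_ne_top (k + 1) hδ hM hξ))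

theorem pow_kill {A V : Type u} [CommRing A] [IsLocalRing A] [AddCommGroup V] [Module A V]
    [IsNoetherian A V] [IsArtinian A V] :
    ∃ n : ℕ, ∀ t ∈ maximalIdeal A, ∀ v : V, t ^ n • v = 0 := by
  obtain ⟨n, hn⟩ := IsArtinian.monotone_stabilizes (R := A) (M := V)
    ⟨fun m => OrderDual.toDual ((maximalIdeal A) ^ m • (⊤ : Submodule A V)), fun a b h =>
      Submodule.smul_mono_left (Ideal.pow_le_pow_right h)⟩
  have he : (maximalIdeal A) ^ n • (⊤ : Submodule A V) = (maximalIdeal A) ^ (n + 1) • ⊤ :=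
    hn (n + 1) (Nat.le_succ n)
  have hb : (maximalIdeal A) ^ n • (⊤ : Submodule A V) = ⊥ := by
    refine Submodule.eq_bot_of_le_smul_of_le_jacobson_bot (maximalIdeal A) _
      (IsNoetherian.noetherian _) ?_ (IsLocalRing.maximalIdeal_le_jacobson _)
    conv_lhs => rw [he, pow_succ', mul_smul]
  refine ⟨n, fun t ht v => ?_⟩
  rw [← Submodule.mem_bot A, ← hb]
  exact Submodule.smul_mem_smul (Ideal.pow_mem_pow ht n) trivial

theorem finite_big (hδ : Cyc.IsDimFun X δ) {M : X.Modules} (hM : Cyc.CohLe δ (k + 1) M) (x : X) :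
    {ξ : Big δ k x | Nontrivial (M.presheaf.stalk ξ.1)}.Finite := by
  obtain ⟨U, hxU, hfin⟩ := K0.Cycles.finite_support (k + 1) hδ hM x
  exact (hfin.preimage Subtype.val_injective.injOn).subset fun ξ hξ =>
    ⟨ξ.2.2.mem_open U.2 hxU, ξ.2.1, hξ⟩

open Classical in
theorem dat (hδ : Cyc.IsDimFun X δ) {M : X.Modules} (hM : Cyc.CohLe δ (k + 1) M) {x : X}
    (hx : δ x = k) : Flag.Dat (S := S δ k x) (phi M δ k x) := by
  haveI := hM.1.1
  haveI := hM.1.2
  haveI := Modules.GenStalk.finite_stalk M x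
  refine ⟨CycAlg.Smul.length_lt_top_of_supportDim_le_zero _ ?_, ⟨?_, fun ξ w => ?_⟩⟩
  · have : Subsingleton (Module.support (X.presheaf.stalk x) (LinearMap.ker (phi M δ k x))) := by
      refine ⟨fun a b => ?_⟩
      have key : ∀ a : Module.support (X.presheaf.stalk x) (LinearMap.ker (phi M δ k x)),
          a.1 = closedPoint _ := fun a => by
        obtain ⟨v, hv⟩ := Module.mem_support_iff_exists_annihilator.1 a.2
        have hy := DimFun.fromSpecStalk_specializes_self x a.1
        by_contra hne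
        have hyne : X.fromSpecStalk x a.1 ≠ x := fun he =>
          hne (DimFun.fromSpecStalk_injective x (he.trans Scheme.fromSpecStalk_closedPoint.symm))
        have hv0 : M.presheaf.stalkSpecializes hy v.1 = 0 := by
          by_cases hn : Nontrivial (M.presheaf.stalk (X.fromSpecStalk x a.1))
          · have h1 := DimFun.lt_of_specializes hδ hy hyne
            have h2 := hM.2 _ hn
            exact congrFun (LinearMap.mem_ker.1 v.2) ⟨_, by omega, hy⟩
          · haveI := not_nontrivial_iff_subsingleton.1 hn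
            exact Subsingleton.elim _ _
        obtain ⟨c, hc, hcv⟩ := exists_smul_eq_zero hM.1 hy v.1 hv0
        have hmem : c ∈ a.1.asIdeal :=
          hv ((Submodule.mem_annihilator_span_singleton _ _).2 (Subtype.ext hcv))
        rw [DimFun.eq_genPrime x a.1] at hmem
        exact hc (RingHom.mem_ker.1 hmem)
      exact Subtype.ext ((key a).trans (key b).symm)
    exact Order.krullDim_nonpos_of_subsingleton
  · rw [LinearMap.range_eq_map]; exact Submodule.FG.map _ Module.Finite.fg_top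
  · obtain ⟨c, v, hc, hcv⟩ := exists_smul_eq_image hM.1 ξ.2.2 w
    let F := (finite_big (k := k) hδ hM x).toFinset.erase ξ
    have hlem : ∀ η : Big δ k x, η ≠ ξ → ∃ t : X.presheaf.stalk x,
        Cyc.specMap x ξ.1 ξ.2.2 t ≠ 0 ∧ t • phi M δ k x v η = 0 := by
      intro η hη
      have hnle : ¬ RingHom.ker (Cyc.specMap x η.1 η.2.2) ≤ RingHom.ker (Cyc.specMap x ξ.1 ξ.2.2) :=
        fun hle => hη (Subtype.ext (DimFun.eq_of_specializes_of_le hδ
          ((DimFun.genPrime_le_iff x η.1 ξ.1 η.2.2 ξ.2.2).1 hle) (η.2.1.trans ξ.2.1.symm).le))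
      obtain ⟨t, ht, ht'⟩ := SetLike.not_le_iff_exists.1 hnle
      obtain ⟨hn, ha⟩ := finiteLength hδ hM η.2.1
      obtain ⟨n, hn'⟩ := pow_kill (A := X.presheaf.stalk η.1) (V := M.presheaf.stalk η.1)
      refine ⟨t ^ n, by rw [map_pow]; exact pow_ne_zero _ ht', ?_⟩
      rw [smul_def, map_pow]
      exact hn' _ ((IsLocalRing.residue_eq_zero_iff _).1 ht) _
    choose! t ht ht0 using hlem
    refine ⟨(∏ η ∈ F, t η) * c, fun hm => ?_, ⟨(∏ η ∈ F, t η) • v, funext fun η => ?_⟩⟩
    · have := (mem_q ξ ((∏ η ∈ F, t η) * c)).1 hm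
      rw [map_mul, map_prod] at this
      exact mul_ne_zero (Finset.prod_ne_zero_iff.2 fun η hη => ht η (Finset.mem_erase.1 hη).1) hc this
    · rw [map_smul, Pi.smul_apply, Pi.smul_apply]
      by_cases hη : η = ξ
      · subst hη
        rw [Pi.single_eq_same, mul_smul]
        congr 1
      · rw [Pi.single_eq_of_ne hη, smul_zero]
        by_cases hn : Nontrivial (M.presheaf.stalk η.1)
        · have hmem : η ∈ F := Finset.mem_erase.2 ⟨hη, (Set.Finite.mem_toFinset _).2 hn⟩
          rw [← Finset.prod_erase_mul F t hmem, mul_smul, ht0 η hη, smul_zero]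
        · haveI := not_nontrivial_iff_subsingleton.1 hn
          exact Subsingleton.elim _ _

end

end Groth.Agent.Lib.Cyc.Retr.Point
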